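import Cfsg.Agent.Lib.SpComm.Small
import Cfsg.Agent.Lib.SpComm.Geometry

/-!
The fixed polynomials over the field with two elements and their coprimality certificates.
-/

set_option autoImplicit false

namespace CfsgLib.OreSmall

open Polynomial CfsgLib.SpComm

local notation "𝔽₂" => ZMod 2

/-- `X + 1`. -/
noncomputable def p1 : (ZMod 2)[X] := X + 1
/-- The cubic. -/
noncomputable def p3 : (ZMod 2)[X] := X ^ 3 + X + 1
/-- The reversed cubic. -/
noncomputable def r3 : (ZMod 2)[X] := X ^ 3 + X ^ 2 + 1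
/-- The quartic. -/
noncomputable def p4 : (ZMod 2)[X] := X ^ 4 + X + 1
/-- The reversed quartic. -/
noncomputable def r4 : (ZMod 2)[X] := X ^ 4 + X ^ 3 + 1
/-- The quintic. -/
noncomputable def p5 : (ZMod 2)[X] := X ^ 5 + X ^ 2 + 1
/-- `X² + X + 1`. -/
noncomputable def pw : (ZMod 2)[X] := X ^ 2 + X + 1
/-- The polynomial to be avoided: it orients the small degrees. -/
noncomputable def ee : (ZMod 2)[X] := r3 * r4 * pw

theorem p1_deg : p1.natDegree = 1 := by rw [p1]; compute_degree!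
theorem p3_deg : p3.natDegree = 3 := by rw [p3]; compute_degree!
theorem r3_deg : r3.natDegree = 3 := by rw [r3]; compute_degree!
theorem p4_deg : p4.natDegree = 4 := by rw [p4]; compute_degree!
theorem r4_deg : r4.natDegree = 4 := by rw [r4]; compute_degree!
theorem p5_deg : p5.natDegree = 5 := by rw [p5]; compute_degree!
theorem pw_deg : pw.natDegree = 2 := by rw [pw]; compute_degree!

theorem p1_rev : p1.reverse = p1 := by
  rw [Polynomial.reverse, p1_deg, p1, show (X + 1 : (ZMod 2)[X]) = C 1 * X ^ 1 + C 1 * X ^ 0 by simp,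
    reflect_add, reflect_C_mul_X_pow, reflect_C_mul_X_pow, revAt_le le_rfl, revAt_le (by norm_num)]
  simp
  ring

theorem p3_rev : p3.reverse = r3 := by
  rw [Polynomial.reverse, p3_deg, p3, r3, show (X ^ 3 + X + 1 : (ZMod 2)[X]) = C 1 * X ^ 3 + C 1 * X ^ 1 + C 1 * X ^ 0 by simp,
    reflect_add, reflect_add, reflect_C_mul_X_pow, reflect_C_mul_X_pow, reflect_C_mul_X_pow, revAt_le le_rfl,
    revAt_le (by norm_num), revAt_le (by norm_num)]
  simp
  ring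

theorem p4_rev : p4.reverse = r4 := by
  rw [Polynomial.reverse, p4_deg, p4, r4, show (X ^ 4 + X + 1 : (ZMod 2)[X]) = C 1 * X ^ 4 + C 1 * X ^ 1 + C 1 * X ^ 0 by simp,
    reflect_add, reflect_add, reflect_C_mul_X_pow, reflect_C_mul_X_pow, reflect_C_mul_X_pow, revAt_le le_rfl,
    revAt_le (by norm_num), revAt_le (by norm_num)]
  simp
  ring

theorem r4_rev : r4.reverse = p4 := by
  rw [Polynomial.reverse, r4_deg, p4, r4, show (X ^ 4 + X ^ 3 + 1 : (ZMod 2)[X]) = C 1 * X ^ 4 + C 1 * X ^ 3 + C 1 * X ^ 0 by simp,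
    reflect_add, reflect_add, reflect_C_mul_X_pow, reflect_C_mul_X_pow, reflect_C_mul_X_pow, revAt_le le_rfl,
    revAt_le (by norm_num), revAt_le (by norm_num)]
  simp
  ring

theorem p5_rev : p5.reverse = X ^ 5 + X ^ 3 + 1 := by
  rw [Polynomial.reverse, p5_deg, p5, show (X ^ 5 + X ^ 2 + 1 : (ZMod 2)[X]) = C 1 * X ^ 5 + C 1 * X ^ 2 + C 1 * X ^ 0 by simp,
    reflect_add, reflect_add, reflect_C_mul_X_pow, reflect_C_mul_X_pow, reflect_C_mul_X_pow, revAt_le le_rfl,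
    revAt_le (by norm_num), revAt_le (by norm_num)]
  simp
  ring

theorem good_p3 : Good p3 := ⟨X, X + 1, by rw [p3_rev, p3, r3]; ring_nf; reduce_mod_char⟩
theorem good_p4 : Good p4 := ⟨X ^ 3 + X + 1, X ^ 3 + X ^ 2, by rw [p4_rev, p4, r4]; ring_nf; reduce_mod_char⟩
theorem good_p5 : Good p5 := ⟨X ^ 2 + X, X ^ 2 + X + 1, by rw [p5_rev, p5]; ring_nf; reduce_mod_char⟩

theorem cop_p1_p3 : IsCoprime p1 p3 := ⟨X ^ 2 + X, 1, by rw [p1, p3]; ring_nf; reduce_mod_char⟩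
theorem cop_p1_p4 : IsCoprime p1 p4 := ⟨X ^ 3 + X ^ 2 + X, 1, by rw [p1, p4]; ring_nf; reduce_mod_char⟩
theorem cop_p1_p5 : IsCoprime p1 p5 := ⟨X ^ 4 + X ^ 3 + X ^ 2, 1, by rw [p1, p5]; ring_nf; reduce_mod_char⟩
theorem cop_r3_p4 : IsCoprime r3 p4 := ⟨X ^ 2, X + 1, by rw [r3, p4]; ring_nf; reduce_mod_char⟩
theorem cop_p4_r4 : IsCoprime p4 r4 := by
  have := good_p4
  rwa [Good, p4_rev] at this

theorem cop_p1_ee : IsCoprime p1 ee :=
  (IsCoprime.mul_right ⟨X ^ 2, 1, by rw [p1, r3]; ring_nf; reduce_mod_char⟩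
    ⟨X ^ 3, 1, by rw [p1, r4]; ring_nf; reduce_mod_char⟩).mul_right ⟨X, 1, by rw [p1, pw]; ring_nf; reduce_mod_char⟩

theorem cop_p3_ee : IsCoprime p3 ee :=
  (IsCoprime.mul_right ⟨X, X + 1, by rw [p3, r3]; ring_nf; reduce_mod_char⟩
    ⟨X ^ 3 + X, X ^ 2 + X + 1, by rw [p3, r4]; ring_nf; reduce_mod_char⟩).mul_right
    ⟨X + 1, X ^ 2, by rw [p3, pw]; ring_nf; reduce_mod_char⟩

theorem cop_p4_ee : IsCoprime p4 ee :=
  (IsCoprime.mul_right ⟨X + 1, X ^ 2, by rw [p4, r3]; ring_nf; reduce_mod_char⟩ cop_p4_r4).mul_right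
    ⟨1, X ^ 2 + X, by rw [p4, pw]; ring_nf; reduce_mod_char⟩

theorem cop_p5_ee : IsCoprime p5 ee :=
  (IsCoprime.mul_right ⟨X, X ^ 3 + X ^ 2 + X + 1, by rw [p5, r3]; ring_nf; reduce_mod_char⟩
    ⟨X ^ 2 + X + 1, X ^ 3 + X, by rw [p5, r4]; ring_nf; reduce_mod_char⟩).mul_right
    ⟨1, X ^ 3 + X ^ 2, by rw [p5, pw]; ring_nf; reduce_mod_char⟩

end CfsgLib.OreSmall
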