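import Cfsg.Agent.Lib.OreSmall.Table
import Cfsg.Agent.Lib.OreSmall.Polys

/-!
The sizes four to seven over the field with two elements, and the small summands split off in larger sizes.
-/

set_option autoImplicit false

namespace CfsgLib.OreSmall

open Matrix Polynomial CfsgLib.PSLCover
open CfsgLib.SpComm (Good glSum coe_glSum)

local notation "𝔽₂" => ZMod 2

variable {n : ℕ}

/-- The invariant of the induction: a factorisation by a polynomial with small factors, avoiding `ee`. -/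
def Fac {ι : Type*} [Fintype ι] [DecidableEq ι] (k : ℕ) (A : Matrix ι ι (ZMod 2)) : Prop :=
  ∃ P : (ZMod 2)[X], (∀ q : (ZMod 2)[X], Irreducible q → q ∣ P → q.natDegree ≤ k) ∧ IsCoprime P ee ∧ Has P A

theorem deg_dvd_le {P q : (ZMod 2)[X]} (hP : P ≠ 0) {k : ℕ} (hk : P.natDegree ≤ k) (h : q ∣ P) :
    q.natDegree ≤ k := (natDegree_le_of_dvd h hP).trans hk

theorem deg_dvd_mul {P Q q : (ZMod 2)[X]} {k : ℕ} (hq : Irreducible q) (h : q ∣ P * Q)
    (hP : q ∣ P → q.natDegree ≤ k) (hQ : q ∣ Q → q.natDegree ≤ k) : q.natDegree ≤ k :=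
  (hq.prime.dvd_or_dvd h).elim hP hQ

theorem ne_zero_of_deg {P : (ZMod 2)[X]} {d : ℕ} (h : P.natDegree = d + 1) : P ≠ 0 := fun e => by
  simp [e] at h

theorem has_of_cert {a s si : ℕ} {c : ℕ × ℕ × ℕ × ℕ} (hu : bmul n s si = bid n n) {P : (ZMod 2)[X]}
    (h0 : aeval (toMat n s) P = 0) (htf : TF (toMat n s)) (hc : chk n a s si c = true) : Has P (toMat n a) := by
  obtain ⟨h, hi, z, zi⟩ := c
  simp only [chk, Bool.and_eq_true, beq_iff_eq] at hc
  obtain ⟨⟨h1, h2⟩, h3⟩ := hc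
  have e : toMat n a * toMat n h = toMat n h * (toMat n s * toMat n z * toMat n si * toMat n zi) := by
    rw [← toMat_bmul, h3, toMat_bmul, toMat_bmul, toMat_bmul, toMat_bmul]
  have hh : toMat n h * toMat n hi = 1 := by rw [← toMat_bmul, h1, toMat_bid]
  have := Has.conj (unitOf h1) (P := P) (A := toMat n s * toMat n z * toMat n si * toMat n zi)
    ⟨unitOf hu, unitOf h2, rfl, h0, htf⟩
  have e' : toMat n h * (toMat n s * toMat n z * toMat n si * toMat n zi) * toMat n hi = toMat n a := by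
    rw [← e, Matrix.mul_assoc, hh, Matrix.mul_one]
  exact e' ▸ this

theorem aeval_p3 : aeval (toMat 3 172) p3 = 0 := by
  simp only [p3, map_add, map_pow, aeval_X, map_one]
  decide +kernel

theorem aeval_p4 : aeval (toMat 4 17048) p4 = 0 := by
  simp only [p4, map_add, map_pow, aeval_X, map_one]
  decide +kernel

theorem aeval_p5 : aeval (toMat 5 8538160) p5 = 0 := by
  simp only [p5, map_add, map_pow, aeval_X, map_one]
  decide +kernel

theorem unit_five : bmul 5 8538160 1581218 = bid 5 5 := by decide +kernel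

theorem tf_p3 : TF (toMat 3 172) := tf_of_good good_p3 (unitOf three_unit) aeval_p3

theorem tf_p4 : TF (toMat 4 17048) := tf_of_good good_p4 (unitOf fourPair_unit) aeval_p4

/-- A fixed element built from two. -/
theorem spec_sum {a b : ℕ} {u : GL (Fin a) (ZMod 2)} {w : GL (Fin b) (ZMod 2)} {P Q : (ZMod 2)[X]}
    (hP : aeval (u : Matrix (Fin a) (Fin a) (ZMod 2)) P = 0) (hQ : aeval (w : Matrix (Fin b) (Fin b) (ZMod 2)) Q = 0)
    (hu : TF (u : Matrix (Fin a) (Fin a) (ZMod 2))) (hw : TF (w : Matrix (Fin b) (Fin b) (ZMod 2)))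
    (hPQ : IsCoprime P.reverse Q) (e : Fin a ⊕ Fin b ≃ Fin n) {m : Matrix (Fin n) (Fin n) (ZMod 2)}
    (hm : m = (fromBlocks (u : Matrix (Fin a) (Fin a) (ZMod 2)) 0 0 (w : Matrix (Fin b) (Fin b) (ZMod 2))).reindex e e) :
    aeval m (P * Q) = 0 ∧ TF m := by
  have h1 := aeval_glSum hP hQ
  have h2 := tf_sum hPQ hP hQ hu hw
  rw [coe_glSum] at h1 h2
  refine ⟨?_, hm ▸ tf_reindex h2 e⟩
  rw [hm, show (fromBlocks (u : Matrix (Fin a) (Fin a) (ZMod 2)) 0 0 (w : Matrix (Fin b) (Fin b) (ZMod 2))).reindex e e =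
      Matrix.reindexAlgEquiv (ZMod 2) (ZMod 2) e
        (fromBlocks (u : Matrix (Fin a) (Fin a) (ZMod 2)) 0 0 (w : Matrix (Fin b) (Fin b) (ZMod 2))) from rfl,
    aeval_algHom_apply, h1, map_zero]

theorem aeval_p1_one : aeval ((1 : GL (Fin 1) (ZMod 2)) : Matrix (Fin 1) (Fin 1) (ZMod 2)) p1 = 0 := by
  simp only [p1, map_add, aeval_X, map_one, Units.val_one]
  decide +kernel

theorem spec_four : aeval (toMat 4 19073) (p1 * p3) = 0 ∧ TF (toMat 4 19073) :=
  spec_sum (u := 1) (w := unitOf three_unit) aeval_p1_one aeval_p3 (tf_of_subsingleton _) tf_p3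
    (by rw [p1_rev]; exact cop_p1_p3) finSumFinEquiv (by rw [Units.val_one]; decide +kernel)

theorem spec_five : aeval (toMat 5 8538625) (p1 * p4) = 0 ∧ TF (toMat 5 8538625) :=
  spec_sum (u := 1) (w := unitOf fourPair_unit) aeval_p1_one aeval_p4 (tf_of_subsingleton _) tf_p4
    (by rw [p1_rev]; exact cop_p1_p4) finSumFinEquiv (by rw [Units.val_one]; decide +kernel)

theorem spec_six : aeval (toMat 6 17323534337) (p1 * p5) = 0 ∧ TF (toMat 6 17323534337) :=
  spec_sum (u := 1) (w := unitOf unit_five) aeval_p1_one aeval_p5 (tf_of_subsingleton _)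
    (tf_of_good good_p5 (unitOf unit_five) aeval_p5)
    (by rw [p1_rev]; exact cop_p1_p5) finSumFinEquiv (by rw [Units.val_one]; decide +kernel)

theorem spec_seven : aeval (toMat 7 141306705773188) (p3 * p4) = 0 ∧ TF (toMat 7 141306705773188) :=
  spec_sum (u := unitOf three_unit) (w := unitOf fourPair_unit) aeval_p3 aeval_p4 tf_p3 tf_p4
    (by rw [p3_rev]; exact cop_r3_p4) finSumFinEquiv (by decide +kernel)

theorem mem_keys : ∀ {ks : List (ℕ × ℕ)} {f n mx : ℕ}, (∀ k ∈ ks, ∃ e < 2 ^ k.1, k.2 = 2 * e + 1) →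
    ks.Pairwise (fun a b => b.1 ≤ a.1) → (∀ k ∈ ks, k.1 < mx) → size (ks.map ofCode) = n → n ≤ f →
    ks ∈ keys f n mx
  | [], f, n, mx, _, _, _, hn, _ => by
    simp [size] at hn
    subst hn
    cases f <;> simp [keys]
  | (d, c) :: ks, f, n, mx, hc, hp, hm, hn, hf => by
    simp [size] at hn
    obtain ⟨f, rfl⟩ : ∃ f', f = f' + 1 := ⟨f - 1, by omega⟩
    obtain ⟨e, he, hce⟩ := hc _ List.mem_cons_self
    simp only at hce he
    subst hce
    rw [List.pairwise_cons] at hp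
    rw [keys, if_neg (by omega), List.mem_flatMap]
    refine ⟨d, by simp; exact ⟨by have := hm _ List.mem_cons_self; simpa using this, by omega⟩, ?_⟩
    rw [List.mem_flatMap]
    refine ⟨e, List.mem_range.2 he, List.mem_map.2 ⟨ks, ?_, rfl⟩⟩
    refine mem_keys (fun k hk => hc k (List.mem_cons_of_mem _ hk)) hp.2 (fun k hk => ?_) (by omega) (by omega)
    have := hp.1 k hk
    simp only at this
    omega

theorem bdg_perm {F : Type*} [Field F] {L L' : List (Blk F)} (h : L.Perm L') : GLSimE (bdg L) (bdg L') := by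
  induction h with
  | nil => exact GLSimE.refl _
  | cons c _ ih => exact ((bdg_cons c _).trans (GLSimE.fromBlocks_right _ ih)).trans (bdg_cons c _).symm
  | swap c d L => exact exists_front [d] c L
  | trans _ _ ih ih' => exact ih.trans ih'

theorem exists_sorted : ∀ L : List (ℕ × ℕ), ∃ L', L.Perm L' ∧ L'.Pairwise fun a b => b.1 ≤ a.1
  | [] => ⟨[], .refl _, .nil⟩
  | x :: L => by
    obtain ⟨L', hp, hs⟩ := exists_sorted L
    suffices H : ∀ M : List (ℕ × ℕ), M.Pairwise (fun a b => b.1 ≤ a.1) →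
        ∃ M', (x :: M).Perm M' ∧ M'.Pairwise (fun a b => b.1 ≤ a.1) by
      obtain ⟨M', h1, h2⟩ := H L' hs
      exact ⟨M', (hp.cons x).trans h1, h2⟩
    intro M hM
    induction M with
    | nil => exact ⟨[x], .refl _, by simp⟩
    | cons y M ih =>
      rw [List.pairwise_cons] at hM
      by_cases hxy : y.1 ≤ x.1
      · refine ⟨x :: y :: M, .refl _, List.pairwise_cons.2 ⟨fun z hz => ?_, List.pairwise_cons.2 hM⟩⟩
        rcases List.mem_cons.1 hz with rfl | hz
        · exact hxy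
        · exact (hM.1 z hz).trans hxy
      · obtain ⟨M', h1, h2⟩ := ih hM.2
        refine ⟨y :: M', (List.Perm.swap y x M).trans (h1.cons y), List.pairwise_cons.2 ⟨fun z hz => ?_, h2⟩⟩
        rcases List.mem_cons.1 (h1.mem_iff.2 hz) with rfl | hz
        · omega
        · exact hM.1 z hz

theorem det_blocks : ∀ {L : List (Blk (ZMod 2))}, (bdg L).det ≠ 0 → ∀ c ∈ L, c.2 0 ≠ 0
  | [], _, _, hc => absurd hc List.not_mem_nil
  | d :: L, h, c, hc => by
    obtain ⟨h1, h2⟩ := det_cons h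
    rcases List.mem_cons.1 hc with rfl | hc
    · exact comp_zero_ne h1
    · exact det_blocks h2 c hc

/-- The coded, sorted block list of an invertible matrix. -/
theorem exists_codes (x : Matrix (Fin n) (Fin n) (ZMod 2)) (hx : x.det ≠ 0) :
    ∃ ks : List (ℕ × ℕ), GLSimE x (bdg (ks.map ofCode)) ∧ (∀ k ∈ ks, ∃ e < 2 ^ k.1, k.2 = 2 * e + 1) ∧
      ks.Pairwise (fun a b => b.1 ≤ a.1) := by
  obtain ⟨L, hL⟩ := exists_blocks x
  have hne := det_blocks (det_ne_of_sim hL hx)
  obtain ⟨ks, rfl, hks⟩ : ∃ ks : List (ℕ × ℕ), L = ks.map ofCode ∧ ∀ k ∈ ks, ∃ e < 2 ^ k.1, k.2 = 2 * e + 1 := by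
    clear hL
    induction L with
    | nil => exact ⟨[], rfl, by simp⟩
    | cons c L ih =>
      obtain ⟨ks, rfl, hks⟩ := ih fun d hd => hne d (List.mem_cons_of_mem _ hd)
      obtain ⟨e, he, hec⟩ := exists_code c (hne c List.mem_cons_self)
      refine ⟨(c.1, 2 * e + 1) :: ks, by rw [List.map_cons, hec], fun k hk => ?_⟩
      rcases List.mem_cons.1 hk with rfl | hk
      · exact ⟨e, he, rfl⟩
      · exact hks k hk
  obtain ⟨ks', hp, hs⟩ := exists_sorted ks
  exact ⟨ks', hL.trans (bdg_perm (hp.map _)), fun k hk => hks k (hp.mem_iff.2 hk), hs⟩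

theorem has_of_table {s si : ℕ} {ks : List (List (ℕ × ℕ))} {cs : List (ℕ × ℕ × ℕ × ℕ)}
    (hu : bmul n s si = bid n n) {P : (ZMod 2)[X]} (h0 : aeval (toMat n s) P = 0 ∧ TF (toMat n s))
    (hc : checkAll n s si ks cs = true) {k : List (ℕ × ℕ)} (hk : k ∈ ks) (hn : size (k.map ofCode) = n) :
    Has P (bdg (k.map ofCode)) := by
  obtain ⟨c, hc⟩ := exists_cert hc k hk
  exact Has.of_glSimE (toMat_enc k hn).symm (has_of_cert hu h0.1 h0.2 hc)

theorem has_keys {f s si : ℕ} {cs : List (ℕ × ℕ × ℕ × ℕ)} (hf : n ≤ f)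
    (hu : bmul n s si = bid n n) {P : (ZMod 2)[X]} (h0 : aeval (toMat n s) P = 0 ∧ TF (toMat n s))
    (hc : checkAll n s si (keys f n n) cs = true) (x : Matrix (Fin n) (Fin n) (ZMod 2)) (hx : x.det ≠ 0) :
    Has P x := by
  obtain ⟨ks, hsim, hks, hs⟩ := exists_codes x hx
  have hn : size (ks.map ofCode) = n := (size_eq_of_sim hsim).symm
  refine Has.of_glSimE hsim.symm (has_of_table hu h0 hc (mem_keys hks hs (fun k hk => ?_) hn hf) hn)
  have h1 : ∀ (L : List (Blk (ZMod 2))), ∀ c ∈ L, c.1 < size L := by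
    intro L
    induction L with
    | nil => simp
    | cons d L ih =>
      intro c hc
      rcases List.mem_cons.1 hc with rfl | hc
      · simp [size]; omega
      · have := ih c hc; simp [size]; omega
  exact hn ▸ h1 _ (ofCode k) (List.mem_map.2 ⟨k, hk, rfl⟩)

/-- Sizes four to seven. -/
theorem fac_base (hn4 : 4 ≤ n) (hn7 : n ≤ 7) (x : Matrix (Fin n) (Fin n) (ZMod 2)) (hx : x.det ≠ 0) :
    Fac (n - 1) x := by
  interval_cases n
  · exact ⟨p1 * p3, fun q hq h => deg_dvd_mul hq h (deg_dvd_le (ne_zero_of_deg p1_deg) (by rw [p1_deg]; omega))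
      (deg_dvd_le (ne_zero_of_deg p3_deg) (by rw [p3_deg])), cop_p1_ee.mul_left cop_p3_ee,
      has_keys le_rfl four_unit spec_four four_check x hx⟩
  · exact ⟨p1 * p4, fun q hq h => deg_dvd_mul hq h (deg_dvd_le (ne_zero_of_deg p1_deg) (by rw [p1_deg]; omega))
      (deg_dvd_le (ne_zero_of_deg p4_deg) (by rw [p4_deg])), cop_p1_ee.mul_left cop_p4_ee,
      has_keys le_rfl five_unit spec_five five_check x hx⟩
  · exact ⟨p1 * p5, fun q hq h => deg_dvd_mul hq h (deg_dvd_le (ne_zero_of_deg p1_deg) (by rw [p1_deg]; omega))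
      (deg_dvd_le (ne_zero_of_deg p5_deg) (by rw [p5_deg])), cop_p1_ee.mul_left cop_p5_ee,
      has_keys le_rfl six_unit spec_six six_check x hx⟩
  · exact ⟨p3 * p4, fun q hq h => deg_dvd_mul hq h (deg_dvd_le (ne_zero_of_deg p3_deg) (by rw [p3_deg]; omega))
      (deg_dvd_le (ne_zero_of_deg p4_deg) (by rw [p4_deg]; omega)), cop_p3_ee.mul_left cop_p4_ee,
      has_keys le_rfl seven_unit spec_seven seven_check x hx⟩

end CfsgLib.OreSmall
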