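import Cfsg.Agent.Lib.SpComm.Basic
import Cfsg.Agent.Lib.PSLCover.Decomp

/-!
Commutator factorisations `A = s z s⁻¹ z⁻¹` with `s` killed by a given polynomial and fixing no nonzero
alternating form: closure under conjugation, direct sums and block triangular gluing.
-/

set_option autoImplicit false
set_option linter.unusedSectionVars false

namespace CfsgLib.OreSmall

open Matrix Polynomial CfsgLib.PSLCover
open CfsgLib.SpComm (Good glSum coe_glSum aeval_reflect aeval_transpose fix_of_good)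

variable {F : Type*} [Field F] {ι κ : Type*} [Fintype ι] [DecidableEq ι] [Fintype κ] [DecidableEq κ]

/-- Alternating on an arbitrary index type. -/
def Alt (X : Matrix ι ι F) : Prop := ∀ x : ι → F, x ⬝ᵥ (X *ᵥ x) = 0

/-- No nonzero alternating form is fixed. -/
def TF (s : Matrix ι ι F) : Prop :=
  ∀ X : Matrix ι ι F, Alt X → (sᵀ * X * s = X ∨ s * X * sᵀ = X) → X = 0

/-- The matrix of a commutator `s z s⁻¹ z⁻¹` with `P(s) = 0` and `TF s`. -/
def Has (P : F[X]) (A : Matrix ι ι F) : Prop :=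
  ∃ s z : GL ι F, ((s * z * s⁻¹ * z⁻¹ : GL ι F) : Matrix ι ι F) = A ∧ aeval (s : Matrix ι ι F) P = 0 ∧
    TF (s : Matrix ι ι F)

theorem tf_of_good {P : F[X]} (hP : Good P) (s : GL ι F) (h : aeval (s : Matrix ι ι F) P = 0) :
    TF (s : Matrix ι ι F) := by
  intro X _ hX
  rcases hX with hX | hX
  · exact fix_of_good hP h hX
  · let st : GL ι F := ⟨(s : Matrix ι ι F)ᵀ, ((s⁻¹ : GL ι F) : Matrix ι ι F)ᵀ,
      by rw [← transpose_mul, ← Units.val_mul, inv_mul_cancel, Units.val_one, transpose_one],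
      by rw [← transpose_mul, ← Units.val_mul, mul_inv_cancel, Units.val_one, transpose_one]⟩
    refine fix_of_good hP (M := st) (by show aeval (s : Matrix ι ι F)ᵀ P = 0; rw [aeval_transpose, h, transpose_zero]) ?_
    show (s : Matrix ι ι F)ᵀᵀ * X * (s : Matrix ι ι F)ᵀ = X
    rwa [transpose_transpose]

theorem tf_of_subsingleton [Subsingleton ι] (s : Matrix ι ι F) : TF s := by
  intro X hX _
  ext i j
  obtain rfl : i = j := Subsingleton.elim i j
  simpa using hX (Pi.single i 1)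

/-- Two-sided intertwiners vanish for coprime spectra. -/
theorem cross_zero {P Q : F[X]} (h : IsCoprime P.reverse Q) {a : Matrix ι ι F} (b : GL κ F)
    (ha : aeval a P = 0) (hb : aeval (b : Matrix κ κ F) Q = 0) {Y : Matrix ι κ F}
    (hY : aᵀ * Y * (b : Matrix κ κ F) = Y) : Y = 0 := by
  obtain ⟨u, w, huw⟩ := h
  have h1 : aeval (b : Matrix κ κ F) u * aeval (b : Matrix κ κ F) P.reverse = 1 := by
    have := congrArg (aeval (b : Matrix κ κ F)) huw
    simpa [map_add, map_mul, hb] using this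
  have hu : IsUnit (aeval ((b⁻¹ : GL κ F) : Matrix κ κ F) P) := by
    have h2 : IsUnit (aeval (b : Matrix κ κ F) P.reverse) := .of_mul_eq_one_right _ h1
    rw [Polynomial.reverse, aeval_reflect b _ P le_rfl, ← Units.val_pow_eq_pow_val, Units.isUnit_units_mul] at h2
    exact h2
  have h0 : aᵀ * Y = Y * ((b⁻¹ : GL κ F) : Matrix κ κ F) := by
    conv_rhs => rw [← hY, Matrix.mul_assoc, ← Units.val_mul, mul_inv_cancel, Units.val_one, Matrix.mul_one]
  have key : ∀ f : F[X], aeval aᵀ f * Y = Y * aeval ((b⁻¹ : GL κ F) : Matrix κ κ F) f := by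
    intro f
    induction f using Polynomial.induction_on with
    | C c => rw [aeval_C, aeval_C, Algebra.algebraMap_eq_smul_one, Algebra.algebraMap_eq_smul_one,
        Matrix.smul_mul, Matrix.mul_smul, Matrix.one_mul, Matrix.mul_one]
    | add p q hp hq => rw [map_add, map_add, Matrix.add_mul, Matrix.mul_add, hp, hq]
    | monomial n c ih =>
      rw [pow_succ, ← mul_assoc, map_mul _ (C c * Polynomial.X ^ n), map_mul _ (C c * Polynomial.X ^ n), aeval_X,
        aeval_X, Matrix.mul_assoc, h0, ← Matrix.mul_assoc, ih, Matrix.mul_assoc]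
  have := key P
  rw [aeval_transpose, ha, transpose_zero, Matrix.zero_mul, eq_comm] at this
  obtain ⟨v, hv⟩ := hu
  rw [← hv] at this
  calc Y = Y * ((v : Matrix κ κ F) * ((v⁻¹ : (Matrix κ κ F)ˣ) : Matrix κ κ F)) := by
        rw [← Units.val_mul, mul_inv_cancel, Units.val_one, Matrix.mul_one]
    _ = 0 := by rw [← Matrix.mul_assoc, this, Matrix.zero_mul]

/-- One-sided intertwiners vanish for coprime spectra. -/
theorem intertwine_zero {P Q : F[X]} (h : IsCoprime P Q) {a : Matrix ι ι F} {b : Matrix κ κ F}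
    (ha : aeval a P = 0) (hb : aeval b Q = 0) {W : Matrix κ ι F} (hW : b * W = W * a) : W = 0 := by
  obtain ⟨u, w, huw⟩ := h
  have key : ∀ f : F[X], aeval b f * W = W * aeval a f := by
    intro f
    induction f using Polynomial.induction_on with
    | C c => rw [aeval_C, aeval_C, Algebra.algebraMap_eq_smul_one, Algebra.algebraMap_eq_smul_one,
        Matrix.smul_mul, Matrix.mul_smul, Matrix.one_mul, Matrix.mul_one]
    | add p q hp hq => rw [map_add, map_add, Matrix.add_mul, Matrix.mul_add, hp, hq]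
    | monomial n c ih =>
      rw [pow_succ, ← mul_assoc, map_mul _ (C c * Polynomial.X ^ n), map_mul _ (C c * Polynomial.X ^ n), aeval_X,
        aeval_X, Matrix.mul_assoc, hW, ← Matrix.mul_assoc, ih, Matrix.mul_assoc]
  have h1 : aeval b u * aeval b P = 1 := by
    have := congrArg (aeval b) huw
    simpa [map_add, map_mul, hb] using this
  calc W = aeval b u * (aeval b P * W) := by rw [← Matrix.mul_assoc, h1, Matrix.one_mul]
    _ = 0 := by rw [key, ha, Matrix.mul_zero, Matrix.mul_zero]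

theorem aeval_glSum {P Q : F[X]} {s : GL ι F} {t : GL κ F} (hs : aeval (s : Matrix ι ι F) P = 0)
    (ht : aeval (t : Matrix κ κ F) Q = 0) :
    aeval (glSum (s, t) : Matrix (ι ⊕ κ) (ι ⊕ κ) F) (P * Q) = 0 := by
  rw [coe_glSum, aeval_fromBlocks, map_mul, map_mul, hs, ht, zero_mul, mul_zero, fromBlocks_zero]

theorem tf_sum {P Q : F[X]} (h : IsCoprime P.reverse Q) {s : GL ι F} {t : GL κ F}
    (hsP : aeval (s : Matrix ι ι F) P = 0) (htQ : aeval (t : Matrix κ κ F) Q = 0)
    (hs : TF (s : Matrix ι ι F)) (ht : TF (t : Matrix κ κ F)) :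
    TF (glSum (s, t) : Matrix (ι ⊕ κ) (ι ⊕ κ) F) := by
  intro X hX hfix
  rw [coe_glSum, fromBlocks_transpose, transpose_zero, transpose_zero, ← fromBlocks_toBlocks X] at hfix
  simp only [fromBlocks_multiply, Matrix.zero_mul, Matrix.mul_zero, add_zero, zero_add, fromBlocks_inj] at hfix
  have hA : ∀ x : ι → F, x ⬝ᵥ (X.toBlocks₁₁ *ᵥ x) = 0 := fun x => by
    have := hX (Sum.elim x 0)
    rw [← fromBlocks_toBlocks X, fromBlocks_mulVec] at this
    simpa [dotProduct] using this
  have hD : ∀ x : κ → F, x ⬝ᵥ (X.toBlocks₂₂ *ᵥ x) = 0 := fun x => by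
    have := hX (Sum.elim 0 x)
    rw [← fromBlocks_toBlocks X, fromBlocks_mulVec] at this
    simpa [dotProduct] using this
  let tr : GL κ F := ⟨(t : Matrix κ κ F)ᵀ, ((t⁻¹ : GL κ F) : Matrix κ κ F)ᵀ,
    by rw [← transpose_mul, ← Units.val_mul, inv_mul_cancel, Units.val_one, transpose_one],
    by rw [← transpose_mul, ← Units.val_mul, mul_inv_cancel, Units.val_one, transpose_one]⟩
  have hsT : aeval (s : Matrix ι ι F)ᵀ P = 0 := by rw [aeval_transpose, hsP, transpose_zero]
  have htT : aeval (tr : Matrix κ κ F) Q = 0 := by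
    show aeval (t : Matrix κ κ F)ᵀ Q = 0
    rw [aeval_transpose, htQ, transpose_zero]
  rw [← fromBlocks_toBlocks X, ← fromBlocks_zero, fromBlocks_inj]
  rcases hfix with ⟨e11, e12, e21, e22⟩ | ⟨e11, e12, e21, e22⟩
  · refine ⟨hs _ hA (.inl e11), cross_zero h t hsP htQ e12, ?_, ht _ hD (.inl e22)⟩
    rw [← transpose_eq_zero]
    refine cross_zero h t hsP htQ ?_
    conv_rhs => rw [← e21]
    simp only [transpose_mul, transpose_transpose, Matrix.mul_assoc]
  · refine ⟨hs _ hA (.inr e11), cross_zero h tr hsT htT ?_, ?_, ht _ hD (.inr e22)⟩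
    · rw [transpose_transpose]; exact e12
    rw [← transpose_eq_zero]
    refine cross_zero h tr hsT htT ?_
    show (s : Matrix ι ι F)ᵀᵀ * _ * (t : Matrix κ κ F)ᵀ = _
    conv_rhs => rw [← e21]
    simp only [transpose_mul, transpose_transpose, Matrix.mul_assoc]

theorem Has.sum {P Q : F[X]} (h : IsCoprime P.reverse Q) {A : Matrix ι ι F} {B : Matrix κ κ F} (hA : Has P A)
    (hB : Has Q B) : Has (P * Q) (fromBlocks A 0 0 B) := by
  obtain ⟨s, z, e, hs, hts⟩ := hA
  obtain ⟨t, y, e', ht, htt⟩ := hB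
  refine ⟨glSum (s, t), glSum (z, y), ?_, aeval_glSum hs ht, tf_sum h hs ht hts htt⟩
  rw [← map_inv, ← map_inv, ← map_mul, ← map_mul, ← map_mul, coe_glSum]
  show fromBlocks ((s * z * s⁻¹ * z⁻¹ : GL ι F) : Matrix ι ι F) 0 0 ((t * y * t⁻¹ * y⁻¹ : GL κ F) : Matrix κ κ F) = _
  rw [e, e']

theorem tf_conj {s : Matrix ι ι F} (c : GL ι F) (h : TF s) :
    TF ((c : Matrix ι ι F) * s * ((c⁻¹ : GL ι F) : Matrix ι ι F)) := by
  intro X hX hfix
  set cm := (c : Matrix ι ι F)
  set ci := ((c⁻¹ : GL ι F) : Matrix ι ι F)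
  have h1 : ci * cm = 1 := by rw [← Units.val_mul, inv_mul_cancel, Units.val_one]
  have h2 : cm * ci = 1 := by rw [← Units.val_mul, mul_inv_cancel, Units.val_one]
  have h1' : cmᵀ * ciᵀ = 1 := by rw [← transpose_mul, h1, transpose_one]
  have h2' : ciᵀ * cmᵀ = 1 := by rw [← transpose_mul, h2, transpose_one]
  rcases hfix with e | e
  · have hY : Alt (cmᵀ * X * cm) := fun x => by
      rw [← Matrix.mulVec_mulVec, ← Matrix.mulVec_mulVec, Matrix.dotProduct_mulVec, Matrix.vecMul_transpose]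
      exact hX _
    have h3 : cmᵀ * X * cm = 0 := h _ hY (.inl (by
      conv_rhs => rw [← e]
      simp only [transpose_mul, ← Matrix.mul_assoc]
      rw [h1', Matrix.one_mul, Matrix.mul_assoc _ ci cm, h1, Matrix.mul_one]))
    calc X = (ciᵀ * cmᵀ) * X * (cm * ci) := by rw [h2, h2', Matrix.one_mul, Matrix.mul_one]
      _ = ciᵀ * (cmᵀ * X * cm) * ci := by simp only [Matrix.mul_assoc]
      _ = 0 := by rw [h3, Matrix.mul_zero, Matrix.zero_mul]
  · have hY : Alt (ci * X * ciᵀ) := fun x => by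
      rw [← Matrix.mulVec_mulVec, ← Matrix.mulVec_mulVec, Matrix.dotProduct_mulVec, ← Matrix.mulVec_transpose]
      exact hX _
    have h3 : ci * X * ciᵀ = 0 := h _ hY (.inr (by
      conv_rhs => rw [← e]
      simp only [transpose_mul, ← Matrix.mul_assoc]
      rw [h1, Matrix.one_mul, Matrix.mul_assoc _ cmᵀ ciᵀ, h1', Matrix.mul_one]))
    calc X = (cm * ci) * X * (ciᵀ * cmᵀ) := by rw [h2, h2', Matrix.one_mul, Matrix.mul_one]
      _ = cm * (ci * X * ciᵀ) * cmᵀ := by simp only [Matrix.mul_assoc]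
      _ = 0 := by rw [h3, Matrix.mul_zero, Matrix.zero_mul]

theorem aeval_conj_zero {P : F[X]} (c s : GL ι F) (hs : aeval (s : Matrix ι ι F) P = 0) :
    aeval ((c * s * c⁻¹ : GL ι F) : Matrix ι ι F) P = 0 := by
  have hc : ((c * s * c⁻¹ : GL ι F) : Matrix ι ι F) * (c : Matrix ι ι F) = (c : Matrix ι ι F) * s := by
    rw [← Units.val_mul, inv_mul_cancel_right, Units.val_mul]
  have key : ∀ f : F[X], aeval ((c * s * c⁻¹ : GL ι F) : Matrix ι ι F) f * (c : Matrix ι ι F) =
      (c : Matrix ι ι F) * aeval (s : Matrix ι ι F) f := by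
    intro f
    induction f using Polynomial.induction_on with
    | C a => rw [aeval_C, aeval_C]; exact Algebra.commutes a _
    | add p q hp hq => rw [map_add, map_add, add_mul, mul_add, hp, hq]
    | monomial n a ih =>
      rw [pow_succ, ← mul_assoc, map_mul _ (C a * X ^ n), map_mul _ (C a * X ^ n), aeval_X, aeval_X, mul_assoc,
        hc, ← mul_assoc, ih, mul_assoc]
  have := key P
  rwa [hs, mul_zero, Units.mul_left_eq_zero] at this

theorem Has.conj {P : F[X]} {A : Matrix ι ι F} (c : GL ι F) (h : Has P A) :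
    Has P ((c : Matrix ι ι F) * A * ((c⁻¹ : GL ι F) : Matrix ι ι F)) := by
  obtain ⟨s, z, e, hs, ht⟩ := h
  refine ⟨c * s * c⁻¹, c * z * c⁻¹, ?_, ?_, ?_⟩
  · rw [← e, ← Units.val_mul, ← Units.val_mul]
    congr 1
    group
  · exact aeval_conj_zero c s hs
  · rw [Units.val_mul, Units.val_mul]
    exact tf_conj c ht

theorem Has.of_glSim {P : F[X]} {A B : Matrix ι ι F} (hs : GLSim A B) (h : Has P A) : Has P B := by
  obtain ⟨M, hM, e⟩ := hs
  let c : GL ι F := GeneralLinearGroup.mkOfDetNeZero M hM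
  have hB : B = (c : Matrix ι ι F) * A * ((c⁻¹ : GL ι F) : Matrix ι ι F) := by
    show B = M * A * ((c⁻¹ : GL ι F) : Matrix ι ι F)
    rw [e, Matrix.mul_assoc]
    show B = B * ((c : Matrix ι ι F) * ((c⁻¹ : GL ι F) : Matrix ι ι F))
    rw [← Units.val_mul, mul_inv_cancel, Units.val_one, Matrix.mul_one]
  exact hB ▸ h.conj c

theorem tf_reindex {s : Matrix ι ι F} (ht : TF s) (e : ι ≃ κ) : TF (s.reindex e e) := by
  intro X hX hfix
  have hY : Alt (X.submatrix e e) := fun x => by
    have := hX (x ∘ e.symm)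
    rw [← this]
    simp only [dotProduct, Matrix.mulVec, Matrix.submatrix_apply, Function.comp_def]
    refine Fintype.sum_equiv e _ _ fun i => ?_
    simp only [Equiv.symm_apply_apply]
    congr 1
    exact Fintype.sum_equiv e _ _ fun j => by simp
  have e0 : X = (X.submatrix e e).submatrix e.symm e.symm := by ext; simp
  have hz : X.submatrix e e = 0 := by
    refine ht _ hY ?_
    rcases hfix with h | h
    · left
      conv_rhs => rw [← h, show s.reindex e e = s.submatrix e.symm e.symm from rfl]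
      simp [transpose_submatrix, ← Matrix.submatrix_mul_equiv _ _ _ e, Matrix.submatrix_submatrix,
        Function.comp_def]
      rfl
    · right
      conv_rhs => rw [← h, show s.reindex e e = s.submatrix e.symm e.symm from rfl]
      simp [transpose_submatrix, ← Matrix.submatrix_mul_equiv _ _ _ e, Matrix.submatrix_submatrix,
        Function.comp_def]
      rfl
  rw [e0, hz]
  rfl

theorem Has.reindex {P : F[X]} {A : Matrix ι ι F} (h : Has P A) (e : ι ≃ κ) : Has P (A.reindex e e) := by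
  obtain ⟨s, z, he, hs, ht⟩ := h
  let r : Matrix ι ι F ≃ₐ[F] Matrix κ κ F := Matrix.reindexAlgEquiv F F e
  let u : GL ι F →* GL κ F := Units.map r.toRingEquiv.toRingHom.toMonoidHom
  refine ⟨u s, u z, ?_, ?_, ?_⟩
  · rw [← map_inv u, ← map_inv u, ← map_mul, ← map_mul, ← map_mul, ← he]
    rfl
  · show aeval (r (s : Matrix ι ι F)) P = 0
    rw [aeval_algHom_apply r (s : Matrix ι ι F) P, hs, map_zero]
  · exact tf_reindex ht e

theorem Has.of_glSimE {P : F[X]} {A : Matrix ι ι F} {B : Matrix κ κ F} (hs : GLSimE A B) (h : Has P A) :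
    Has P B := by
  obtain ⟨e, he⟩ := hs
  exact (h.reindex e).of_glSim he

/-- Lower unipotent block matrix. -/
def lowU (W : Matrix κ ι F) : GL (ι ⊕ κ) F :=
  ⟨fromBlocks 1 0 W 1, fromBlocks 1 0 (-W) 1, by simp [fromBlocks_multiply],
    by simp [fromBlocks_multiply]⟩

/-- Upper unipotent block matrix. -/
def uppU (V : Matrix ι κ F) : GL (ι ⊕ κ) F :=
  ⟨fromBlocks 1 V 0 1, fromBlocks 1 (-V) 0 1, by simp [fromBlocks_multiply],
    by simp [fromBlocks_multiply]⟩

/-- Gluing along a lower times upper block triangular product. -/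
theorem Has.lu {P Q : F[X]} (hPQ : IsCoprime P Q) (hPQ' : IsCoprime P.reverse Q) {A : Matrix ι ι F}
    {D : Matrix κ κ F} (hA : Has P A) (hD : Has Q D) (X : Matrix κ ι F) (Y : Matrix ι κ F) :
    Has (P * Q) (fromBlocks A (A * Y) (X * A) (X * A * Y + D)) := by
  obtain ⟨s1, z1, e1, hs1, ht1⟩ := hA
  obtain ⟨s2, z2, e2, hs2, ht2⟩ := hD
  set t1 : GL ι F := z1 * s1⁻¹ * z1⁻¹ with htd1
  set t2 : GL κ F := z2 * s2⁻¹ * z2⁻¹ with htd2
  have hA' : A = (s1 : Matrix ι ι F) * t1 := by
    rw [← e1, ← Units.val_mul, htd1]; congr 1; group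
  have hD' : D = (s2 : Matrix κ κ F) * t2 := by
    rw [← e2, ← Units.val_mul, htd2]; congr 1; group
  obtain ⟨W, hW⟩ : ∃ W : Matrix κ ι F, W * (s1 : Matrix ι ι F) - (s2 : Matrix κ κ F) * W = X * (s1 : Matrix ι ι F) := by
    let φ : Matrix κ ι F →ₗ[F] Matrix κ ι F :=
      { toFun := fun W => W * (s1 : Matrix ι ι F) - (s2 : Matrix κ κ F) * W
        map_add' := fun a b => by rw [Matrix.add_mul, Matrix.mul_add]; abel
        map_smul' := fun c a => by simp [Matrix.smul_mul, Matrix.mul_smul, smul_sub] }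
    have hφ : Function.Injective φ := (injective_iff_map_eq_zero φ).2 fun W hW =>
      intertwine_zero hPQ hs1 hs2 (sub_eq_zero.1 hW).symm
    exact LinearMap.surjective_of_injective hφ (X * (s1 : Matrix ι ι F))
  obtain ⟨V, hV⟩ : ∃ V : Matrix ι κ F, V * (t2 : Matrix κ κ F) - (t1 : Matrix ι ι F) * V = (t1 : Matrix ι ι F) * Y := by
    let φ : Matrix ι κ F →ₗ[F] Matrix ι κ F :=
      { toFun := fun V => V * (t2 : Matrix κ κ F) - (t1 : Matrix ι ι F) * V
        map_add' := fun a b => by rw [Matrix.add_mul, Matrix.mul_add]; abel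
        map_smul' := fun c a => by simp [Matrix.smul_mul, Matrix.mul_smul, smul_sub] }
    have hφ : Function.Injective φ := (injective_iff_map_eq_zero φ).2 fun V hV => by
      have hV' : V * (t2 : Matrix κ κ F) = (t1 : Matrix ι ι F) * V := sub_eq_zero.1 hV
      set U : Matrix ι κ F := ((z1⁻¹ : GL ι F) : Matrix ι ι F) * V * (z2 : Matrix κ κ F)
      have hU : U = 0 := by
        refine intertwine_zero hPQ.symm hs2 hs1 ?_
        have p2 : (t2 : Matrix κ κ F) * ((z2 : Matrix κ κ F) * (s2 : Matrix κ κ F)) = (z2 : Matrix κ κ F) := by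
          rw [← Units.val_mul, ← Units.val_mul, show t2 * (z2 * s2) = z2 by rw [htd2]; group]
        have p1 : (s1 : Matrix ι ι F) * ((z1⁻¹ : GL ι F) : Matrix ι ι F) * (t1 : Matrix ι ι F) =
            ((z1⁻¹ : GL ι F) : Matrix ι ι F) := by
          rw [← Units.val_mul, ← Units.val_mul, show s1 * z1⁻¹ * t1 = z1⁻¹ by rw [htd1]; group]
        calc (s1 : Matrix ι ι F) * U = (s1 : Matrix ι ι F) * ((z1⁻¹ : GL ι F) : Matrix ι ι F) *
              (V * (t2 : Matrix κ κ F)) * ((z2 : Matrix κ κ F) * (s2 : Matrix κ κ F)) := by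
              conv_lhs => rw [show U = ((z1⁻¹ : GL ι F) : Matrix ι ι F) * V * (z2 : Matrix κ κ F) from rfl, ← p2]
              simp only [Matrix.mul_assoc]
          _ = U * (s2 : Matrix κ κ F) := by
              rw [hV', ← Matrix.mul_assoc _ (t1 : Matrix ι ι F) V, p1]
              simp only [U, Matrix.mul_assoc]
      calc V = ((z1 * z1⁻¹ : GL ι F) : Matrix ι ι F) * V * ((z2 * z2⁻¹ : GL κ F) : Matrix κ κ F) := by
            rw [mul_inv_cancel, mul_inv_cancel, Units.val_one, Units.val_one, Matrix.one_mul, Matrix.mul_one]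
        _ = (z1 : Matrix ι ι F) * U * ((z2⁻¹ : GL κ F) : Matrix κ κ F) := by
            simp only [Units.val_mul, U, Matrix.mul_assoc]
        _ = 0 := by rw [hU, Matrix.mul_zero, Matrix.zero_mul]
    exact LinearMap.surjective_of_injective hφ ((t1 : Matrix ι ι F) * Y)
  set S : GL (ι ⊕ κ) F := lowU W * glSum (s1, s2) * (lowU W)⁻¹ with hS
  set Z : GL (ι ⊕ κ) F := uppU V * glSum (z1, z2) * (lowU W)⁻¹ with hZ
  have hSv : (S : Matrix (ι ⊕ κ) (ι ⊕ κ) F) = fromBlocks (s1 : Matrix ι ι F) 0 (X * (s1 : Matrix ι ι F)) (s2 : Matrix κ κ F) := by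
    rw [hS, Units.val_mul, Units.val_mul, coe_glSum]
    show fromBlocks 1 0 W 1 * fromBlocks _ 0 0 _ * fromBlocks 1 0 (-W) 1 = _
    simp only [fromBlocks_multiply, Matrix.one_mul, Matrix.mul_one, Matrix.zero_mul, Matrix.mul_zero, add_zero,
      zero_add, Matrix.mul_neg, ← hW, Matrix.neg_mul, neg_zero, sub_eq_add_neg]
  have hTv : ((Z * S⁻¹ * Z⁻¹ : GL (ι ⊕ κ) F) : Matrix (ι ⊕ κ) (ι ⊕ κ) F) =
      fromBlocks (t1 : Matrix ι ι F) ((t1 : Matrix ι ι F) * Y) 0 (t2 : Matrix κ κ F) := by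
    rw [show Z * S⁻¹ * Z⁻¹ = uppU V * glSum (t1, t2) * (uppU V)⁻¹ by
      rw [hZ, hS, htd1, htd2, show glSum (z1 * s1⁻¹ * z1⁻¹, z2 * s2⁻¹ * z2⁻¹) =
        glSum (z1, z2) * (glSum (s1, s2))⁻¹ * (glSum (z1, z2))⁻¹ by
          rw [← map_inv, ← map_inv, ← map_mul, ← map_mul]; rfl]
      group, Units.val_mul, Units.val_mul, coe_glSum]
    show fromBlocks 1 V 0 1 * fromBlocks _ 0 0 _ * fromBlocks 1 (-V) 0 1 = _
    simp only [fromBlocks_multiply, Matrix.one_mul, Matrix.mul_one, Matrix.zero_mul, Matrix.mul_zero, add_zero,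
      zero_add, Matrix.mul_neg, ← hV, Matrix.neg_mul, neg_zero, sub_eq_add_neg]
    congr 1
    abel
  refine ⟨S, Z, ?_, ?_, ?_⟩
  · rw [show S * Z * S⁻¹ * Z⁻¹ = S * (Z * S⁻¹ * Z⁻¹) by group, Units.val_mul, hSv, hTv, fromBlocks_multiply,
      hA', hD']
    simp only [Matrix.mul_assoc, Matrix.mul_zero, Matrix.zero_mul, add_zero]
  · rw [hS]
    exact aeval_conj_zero _ _ (aeval_glSum hs1 hs2)
  · rw [hS, Units.val_mul, Units.val_mul]
    exact tf_conj _ (tf_sum hPQ' hs1 hs2 ht1 ht2)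

end CfsgLib.OreSmall
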