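import Cfsg.Agent.Lib.OreSmall.Blocks

/-!
Matrices over the field with two elements packed in natural numbers, for kernel checked certificates.
-/

set_option autoImplicit false

namespace CfsgLib.OreSmall

open Matrix CfsgLib.PSLCover

/-- A bit as a scalar. -/
def bz (b : Bool) : ZMod 2 := if b then 1 else 0

theorem bz_xor (a b : Bool) : bz (a ^^ b) = bz a + bz b := by cases a <;> cases b <;> decide

theorem bz_and (a b : Bool) : bz (a && b) = bz a * bz b := by cases a <;> cases b <;> decide

theorem exists_bz (x : ZMod 2) : ∃ b, bz b = x := by revert x; decide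

/-- The matrix packed in `c`. -/
def toMat (n c : ℕ) : Matrix (Fin n) (Fin n) (ZMod 2) := Matrix.of fun i j => bz (c.testBit (i.val * n + j.val))

/-- A row. -/
def row (n c i : ℕ) : ℕ := (c >>> (i * n)) &&& (2 ^ n - 1)

/-- The first `k` terms of a row times a matrix. -/
def rowMulTo (n x b : ℕ) : ℕ → ℕ
  | 0 => 0
  | k + 1 => if x.testBit k then rowMulTo n x b k ^^^ row n b k else rowMulTo n x b k

/-- The first `k` rows of a product. -/
def bmulTo (n a b : ℕ) : ℕ → ℕ
  | 0 => 0
  | k + 1 => bmulTo n a b k ||| (rowMulTo n (row n a k) b n <<< (k * n))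

/-- The packed product. -/
def bmul (n a b : ℕ) : ℕ := bmulTo n a b n

/-- The packed identity. -/
def bid (n : ℕ) : ℕ → ℕ
  | 0 => 0
  | k + 1 => bid n k ||| (2 ^ (k * n + k))

theorem testBit_row (n c i j : ℕ) : (row n c i).testBit j = (decide (j < n) && c.testBit (i * n + j)) := by
  rw [row, Nat.testBit_and, Nat.testBit_shiftRight, Nat.testBit_two_pow_sub_one, Bool.and_comm]

theorem row_lt (n c i : ℕ) : row n c i < 2 ^ n :=
  lt_of_le_of_lt Nat.and_le_right (Nat.sub_lt (Nat.two_pow_pos n) Nat.one_pos)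

theorem rowMulTo_lt (n x b : ℕ) : ∀ k, rowMulTo n x b k < 2 ^ n
  | 0 => Nat.two_pow_pos n
  | k + 1 => by
    rw [rowMulTo]
    split
    · exact Nat.xor_lt_two_pow (rowMulTo_lt n x b k) (row_lt n b k)
    · exact rowMulTo_lt n x b k

theorem bz_rowMulTo (n x b : ℕ) {j : ℕ} (hj : j < n) : ∀ k,
    bz ((rowMulTo n x b k).testBit j) = ∑ l ∈ Finset.range k, bz (x.testBit l) * bz (b.testBit (l * n + j))
  | 0 => by simp [rowMulTo, bz]
  | k + 1 => by
    rw [Finset.sum_range_succ, rowMulTo, ← bz_rowMulTo n x b hj k]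
    cases h : x.testBit k
    · simp [bz]
    · rw [if_pos rfl, Nat.testBit_xor, bz_xor, testBit_row, decide_eq_true hj, Bool.true_and]
      simp [bz]

theorem testBit_bmulTo (n a b : ℕ) {i j : ℕ} (hj : j < n) : ∀ k,
    (bmulTo n a b k).testBit (i * n + j) = (decide (i < k) && (rowMulTo n (row n a i) b n).testBit j)
  | 0 => by simp [bmulTo]
  | k + 1 => by
    rw [bmulTo, Nat.testBit_or, testBit_bmulTo n a b hj k, Nat.testBit_shiftLeft]
    rcases Nat.lt_trichotomy i k with h | rfl | h
    · have h1 : i * n + j < k * n := by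
        have : (i + 1) * n ≤ k * n := Nat.mul_le_mul_right n h
        rw [Nat.add_mul, one_mul] at this
        omega
      simp [h, show i < k + 1 by omega, Nat.not_le.2 h1]
    · simp
    · have h1 : (k + 1) * n ≤ i * n := Nat.mul_le_mul_right n h
      rw [Nat.add_mul, one_mul] at h1
      have h2 : (rowMulTo n (row n a k) b n).testBit (i * n + j - k * n) = false :=
        Nat.testBit_eq_false_of_lt ((rowMulTo_lt n _ b n).trans_le
          (Nat.pow_le_pow_right (by norm_num) (by omega)))
      simp [h2, show ¬ i < k + 1 by omega, show ¬ i < k by omega]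

theorem toMat_bmul (n a b : ℕ) : toMat n (bmul n a b) = toMat n a * toMat n b := by
  ext i j
  simp only [toMat, Matrix.mul_apply, Matrix.of_apply, bmul]
  rw [testBit_bmulTo n a b j.2, decide_eq_true i.2, Bool.true_and, bz_rowMulTo n _ b j.2 n,
    ← Fin.sum_univ_eq_sum_range]
  refine Finset.sum_congr rfl fun l _ => ?_
  rw [testBit_row, decide_eq_true l.2, Bool.true_and]

theorem testBit_bid (n : ℕ) {i j : ℕ} (hj : j < n) : ∀ k, k ≤ n →
    (bid n k).testBit (i * n + j) = decide (i < k ∧ i = j)
  | 0, _ => by simp [bid]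
  | k + 1, hk => by
    rw [bid, Nat.testBit_or, testBit_bid n hj k (by omega), Nat.testBit_two_pow]
    have hiff : k * n + k = i * n + j ↔ i = k ∧ i = j := by
      constructor
      · intro h
        rcases Nat.lt_trichotomy i k with h' | h' | h'
        · have : (i + 1) * n ≤ k * n := Nat.mul_le_mul_right n h'
          rw [Nat.add_mul, one_mul] at this
          omega
        · subst h'; omega
        · have : (k + 1) * n ≤ i * n := Nat.mul_le_mul_right n h'
          rw [Nat.add_mul, one_mul] at this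
          omega
      · rintro ⟨rfl, rfl⟩; rfl
    rw [Bool.eq_iff_iff]
    simp only [Bool.or_eq_true, decide_eq_true_eq, hiff]
    omega

theorem toMat_bid (n : ℕ) : toMat n (bid n n) = 1 := by
  ext i j
  rw [toMat, Matrix.of_apply, testBit_bid n j.2 n le_rfl, Matrix.one_apply]
  by_cases h : i = j
  · subst h; simp [bz, i.2]
  · simp [bz, h, Fin.val_ne_iff.2 h]

/-- An invertible packed matrix. -/
def unitOf {n c ci : ℕ} (h : bmul n c ci = bid n n) : GL (Fin n) (ZMod 2) :=
  ⟨toMat n c, toMat n ci, by rw [← toMat_bmul, h, toMat_bid],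
    mul_eq_one_comm.1 (by rw [← toMat_bmul, h, toMat_bid])⟩

/-- A block from its size minus one and the bits of its last column. -/
@[reducible] def ofCode (k : ℕ × ℕ) : Blk (ZMod 2) := ⟨k.1, fun i => bz (k.2.testBit i.val)⟩

theorem exists_code (c : Blk (ZMod 2)) (h : c.2 0 ≠ 0) : ∃ e < 2 ^ c.1, ofCode (c.1, 2 * e + 1) = c := by
  obtain ⟨d, a⟩ := c
  refine ⟨Nat.ofBits fun i : Fin d => decide (a i.succ = 1), Nat.ofBits_lt_two_pow _, ?_⟩
  have h01 : ∀ x : ZMod 2, x ≠ 0 → x = 1 := by decide
  have hb : ∀ x : ZMod 2, bz (decide (x = 1)) = x := by decide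
  refine Sigma.ext rfl (heq_of_eq ?_)
  show (fun i : Fin (d + 1) => bz (Nat.testBit (2 * (Nat.ofBits fun i : Fin d => decide (a i.succ = 1)) + 1) i.val)) = a
  funext i
  refine Fin.cases ?_ (fun i => ?_) i
  · rw [Fin.val_zero, Nat.testBit_zero, h01 (a 0) h]
    simp [bz, Nat.add_mod]
  · rw [Fin.val_succ, Nat.testBit_succ, show ∀ m : ℕ, (2 * m + 1) / 2 = m by omega, Nat.testBit_ofBits_lt _ _ i.2]
    exact hb _

/-- The entries of a direct sum of coded companion blocks. -/
def entBit : List (ℕ × ℕ) → ℕ → ℕ → Bool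
  | [], _, _ => false
  | (d, c) :: ks, i, j =>
    if i ≤ d then (if j ≤ d then (if j = d then c.testBit i else i == j + 1) else false)
    else (if j ≤ d then false else entBit ks (i - (d + 1)) (j - (d + 1)))

theorem entBit_head (d c : ℕ) (ks : List (ℕ × ℕ)) {i j : ℕ} (hi : i ≤ d) (hj : j ≤ d) :
    entBit ((d, c) :: ks) i j = if j = d then c.testBit i else i == j + 1 := by
  rw [entBit, if_pos hi, if_pos hj]

theorem bdg_ofCode : ∀ (ks : List (ℕ × ℕ)) (i j : Fin (size (ks.map ofCode))),
    bdg (ks.map ofCode) i j = bz (entBit ks i.val j.val)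
  | [], i, _ => i.elim0
  | (d, c) :: ks, i, j => by
    obtain ⟨i, rfl⟩ := (finSumFinEquiv (m := d + 1) (n := size (ks.map ofCode))).surjective i
    obtain ⟨j, rfl⟩ := (finSumFinEquiv (m := d + 1) (n := size (ks.map ofCode))).surjective j
    show (Matrix.fromBlocks (PSLCover.comp (ofCode (d, c)).2) 0 0 (bdg (ks.map ofCode))).reindex finSumFinEquiv
      finSumFinEquiv (finSumFinEquiv i) (finSumFinEquiv j) = _
    rw [Matrix.reindex_apply, Matrix.submatrix_apply, Equiv.symm_apply_apply, Equiv.symm_apply_apply]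
    rcases i with i | i <;> rcases j with j | j
    · have hi : i.val ≤ d := Nat.lt_succ_iff.1 i.2
      have hj : j.val ≤ d := Nat.lt_succ_iff.1 j.2
      show (if j = Fin.last d then bz (c.testBit i.val) else if i.val = j.val + 1 then 1 else 0) =
        bz (entBit ((d, c) :: ks) i.val j.val)
      rw [entBit_head d c ks hi hj]
      by_cases h : j.val = d
      · rw [if_pos (Fin.ext h), if_pos h]
      · rw [if_neg fun e => h (congrArg Fin.val e), if_neg h]
        by_cases h' : i.val = j.val + 1 <;> simp [bz, h']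
    · have hi : i.val ≤ d := Nat.lt_succ_iff.1 i.2
      have hj : ¬ (d + 1 + j.val ≤ d) := by omega
      simp [finSumFinEquiv_apply_left, finSumFinEquiv_apply_right, entBit, hi, hj, bz]
    · have hj : j.val ≤ d := Nat.lt_succ_iff.1 j.2
      have hi : ¬ (d + 1 + i.val ≤ d) := by omega
      simp [finSumFinEquiv_apply_left, finSumFinEquiv_apply_right, entBit, hi, hj, bz]
    · have hi : ¬ (d + 1 + i.val ≤ d) := by omega
      have hj : ¬ (d + 1 + j.val ≤ d) := by omega
      simp only [fromBlocks_apply₂₂, finSumFinEquiv_apply_right, entBit, Fin.val_natAdd, if_neg hi, if_neg hj,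
        Nat.add_sub_cancel_left]
      exact bdg_ofCode ks i j

/-- Pack the entries given by `f`. -/
def packTo (n : ℕ) (f : ℕ → ℕ → Bool) : ℕ → ℕ
  | 0 => 0
  | k + 1 => packTo n f k ||| (if f (k / n) (k % n) then 2 ^ k else 0)

theorem testBit_packTo (n : ℕ) (f : ℕ → ℕ → Bool) (p : ℕ) : ∀ k,
    (packTo n f k).testBit p = (decide (p < k) && f (p / n) (p % n))
  | 0 => by simp [packTo]
  | k + 1 => by
    rw [packTo, Nat.testBit_or, testBit_packTo n f p k]
    by_cases h : p = k
    · subst h
      cases f (p / n) (p % n) <;> simp [Nat.testBit_two_pow]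
    · have h' : (p < k + 1) ↔ p < k := by omega
      cases f (k / n) (k % n) <;> simp [Nat.testBit_two_pow, Ne.symm h, h']

/-- The packed direct sum. -/
def enc (n : ℕ) (ks : List (ℕ × ℕ)) : ℕ := packTo n (entBit ks) (n * n)

theorem toMat_enc {n : ℕ} (ks : List (ℕ × ℕ)) (hn : size (ks.map ofCode) = n) :
    GLSimE (bdg (ks.map ofCode)) (toMat n (enc n ks)) := by
  have key : ∀ {n i j : ℕ}, i < n → j < n → (enc n ks).testBit (i * n + j) = entBit ks i j := by
    intro n i j hi hj
    have hlt : i * n + j < n * n := by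
      have : (i + 1) * n ≤ n * n := Nat.mul_le_mul_right n hi
      rw [Nat.add_mul, one_mul] at this
      omega
    rw [enc, testBit_packTo, decide_eq_true hlt, Bool.true_and, Nat.mul_comm i n, Nat.mul_add_div (by omega) i,
      Nat.div_eq_of_lt hj, Nat.add_zero, Nat.mul_add_mod, Nat.mod_eq_of_lt hj]
  subst hn
  have e : bdg (ks.map ofCode) = toMat _ (enc (size (ks.map ofCode)) ks) := by
    ext i j
    rw [bdg_ofCode, toMat, Matrix.of_apply, key i.2 j.2]
  rw [← e]
  exact GLSimE.refl _

end CfsgLib.OreSmall
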