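import Cfsg.Agent.Lib.OreSmall.Pole

/-!
Every matrix is similar to a direct sum of companion blocks; blocks can be moved to the front, and the
module is generated by as many vectors as there are blocks.
-/

set_option autoImplicit false
set_option linter.unusedSectionVars false

namespace CfsgLib.OreSmall

open Matrix Polynomial CfsgLib.PSLCover

variable {F : Type*} [Field F] {ι κ : Type*} [Fintype ι] [DecidableEq ι] [Fintype κ] [DecidableEq κ]

/-- A companion block: its size minus one and its last column. -/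
abbrev Blk (F : Type*) := Σ d : ℕ, Fin (d + 1) → F

/-- Total size. -/
def size : List (Blk F) → ℕ
  | [] => 0
  | c :: L => (c.1 + 1) + size L

/-- The direct sum of companion blocks. -/
def bdg : (L : List (Blk F)) → Matrix (Fin (size L)) (Fin (size L)) F
  | [] => 0
  | c :: L => (fromBlocks (PSLCover.comp c.2) 0 0 (bdg L)).reindex finSumFinEquiv finSumFinEquiv

theorem bdg_cons (c : Blk F) (L : List (Blk F)) : GLSimE (bdg (c :: L)) (fromBlocks (PSLCover.comp c.2) 0 0 (bdg L)) :=
  (GLSimE.of_reindex finSumFinEquiv _).symm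

theorem exists_blocks : ∀ {n : ℕ} (x : Matrix (Fin n) (Fin n) F), ∃ L, GLSimE x (bdg L) := by
  intro n
  induction n using Nat.strong_induction_on with
  | _ n ih =>
    intro x
    rcases Nat.eq_zero_or_pos n with rfl | hn
    · exact ⟨[], Equiv.refl _, 1, by simp, Matrix.ext fun i => Fin.elim0 i⟩
    haveI : Nonempty (Fin n) := ⟨⟨0, hn⟩⟩
    obtain ⟨d, m, a, x2, h, -⟩ := exists_split_cyclic x
    have hc := h.card
    simp only [Fintype.card_fin, Fintype.card_sum] at hc
    obtain ⟨L, hL⟩ := ih m (by omega) x2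
    exact ⟨⟨d, a⟩ :: L, (h.trans (GLSimE.fromBlocks_right (PSLCover.comp a) hL)).trans (bdg_cons ⟨d, a⟩ L).symm⟩

theorem size_eq_of_sim {n : ℕ} {x : Matrix (Fin n) (Fin n) F} {L : List (Blk F)} (h : GLSimE x (bdg L)) :
    n = size L := by simpa using h.card

theorem exists_front : ∀ (L1 : List (Blk F)) (c : Blk F) (L2 : List (Blk F)),
    GLSimE (bdg (L1 ++ c :: L2)) (bdg (c :: (L1 ++ L2)))
  | [], c, L2 => GLSimE.refl _
  | e :: L1, c, L2 => by
    refine (bdg_cons e (L1 ++ c :: L2)).trans ?_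
    refine (GLSimE.fromBlocks_right _ ((exists_front L1 c L2).trans (bdg_cons c (L1 ++ L2)))).trans ?_
    refine (glSimE_fromBlocks_swap _ _ _).trans ?_
    exact (GLSimE.fromBlocks_right _ (bdg_cons e (L1 ++ L2)).symm).trans (bdg_cons c (e :: (L1 ++ L2))).symm

/-- A block with a given property can be moved to the front. -/
theorem exists_take (p : Blk F → Bool) {L : List (Blk F)} (h : 1 ≤ L.countP p) :
    ∃ c L', p c = true ∧ L.countP p = L'.countP p + 1 ∧ GLSimE (bdg L) (bdg (c :: L')) := by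
  obtain ⟨c, hc, hpc⟩ := List.countP_pos_iff.1 h
  obtain ⟨L1, L2, rfl⟩ := List.mem_iff_append.1 hc
  refine ⟨c, L1 ++ L2, hpc, ?_, exists_front L1 c L2⟩
  simp [List.countP_append, List.countP_cons, hpc]
  omega

theorem det_ne_of_sim {x : Matrix ι ι F} {y : Matrix κ κ F} (h : GLSimE x y) (hx : x.det ≠ 0) : y.det ≠ 0 := by
  obtain ⟨e, he⟩ := h
  rw [← he.det_eq, Matrix.det_reindex_self]
  exact hx

theorem det_cons {c : Blk F} {L : List (Blk F)} (h : (bdg (c :: L)).det ≠ 0) :
    (PSLCover.comp c.2).det ≠ 0 ∧ (bdg L).det ≠ 0 := by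
  have := det_ne_of_sim (bdg_cons c L) h
  rw [det_fromBlocks_zero₂₁] at this
  exact mul_ne_zero_iff.1 this

theorem comp_zero_ne {d : ℕ} {a : Fin (d + 1) → F} (h : (PSLCover.comp a).det ≠ 0) : a 0 ≠ 0 := by
  intro h0
  refine h (Matrix.det_eq_zero_of_row_eq_zero 0 fun j => ?_)
  by_cases hj : j = Fin.last d
  · rw [hj, comp_last, h0]
  · simp [PSLCover.comp, hj]

theorem Gen.mono {x : Matrix ι ι F} {r r' : ℕ} (h : Gen x r) (hr : r ≤ r') : Gen x r' := by
  obtain ⟨g, hg⟩ := h
  refine ⟨fun i => if hi : i.val < r then g ⟨i, hi⟩ else 0, fun U hU hgU => hg U hU fun i => ?_⟩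
  have := hgU ⟨i, lt_of_lt_of_le i.2 hr⟩
  simpa [i.2] using this

theorem Gen.of_glSimE {x : Matrix ι ι F} {y : Matrix κ κ F} {r : ℕ} (h : GLSimE x y) (hg : Gen x r) : Gen y r := by
  obtain ⟨e, P, hP, hPe⟩ := h
  obtain ⟨g, hg⟩ := hg
  let f : (ι → F) →ₗ[F] (κ → F) := P.mulVecLin ∘ₗ LinearMap.funLeft F F e.symm
  have hfi : Function.Injective f := fun v w hvw => by
    have := Matrix.mulVec_injective_iff_isUnit.2 ((Matrix.isUnit_iff_isUnit_det P).2 (isUnit_iff_ne_zero.2 hP)) hvw
    funext i
    simpa [LinearMap.funLeft] using congrFun this (e i)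
  have hfs : Function.Surjective f := by
    intro w
    refine ⟨(P⁻¹ *ᵥ w) ∘ e, ?_⟩
    show P *ᵥ (((P⁻¹ *ᵥ w) ∘ e) ∘ e.symm) = w
    rw [Function.comp_assoc, Equiv.self_comp_symm, Function.comp_id, Matrix.mulVec_mulVec,
      Matrix.mul_nonsing_inv _ (isUnit_iff_ne_zero.2 hP), Matrix.one_mulVec]
  have hcomm : ∀ v, f (x *ᵥ v) = y *ᵥ f v := fun v => by
    show P *ᵥ ((x *ᵥ v) ∘ e.symm) = y *ᵥ (P *ᵥ (v ∘ e.symm))
    rw [Matrix.mulVec_mulVec _ y P, ← hPe, ← Matrix.mulVec_mulVec]
    congr 1
    rw [Matrix.reindex_apply, Matrix.submatrix_mulVec_equiv, Equiv.symm_symm, Function.comp_assoc,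
      Equiv.symm_comp_self, Function.comp_id]
  refine ⟨fun i => f (g i), fun U hU hgU => eq_top_iff.2 fun w _ => ?_⟩
  obtain ⟨v, rfl⟩ := hfs w
  have := hg (U.comap f) (fun v hv => by
    show f (x *ᵥ v) ∈ U
    rw [hcomm]; exact hU _ hv) hgU
  exact show v ∈ U.comap f from this ▸ Submodule.mem_top

theorem gen_blocks : ∀ L : List (Blk F), Gen (bdg L) L.length
  | [] => ⟨fun i => i.elim0, fun U _ _ => Submodule.eq_top_iff'.2 fun v => by
      rw [show v = 0 from funext fun i => Fin.elim0 i]; exact U.zero_mem⟩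
  | c :: L => by
    refine Gen.of_glSimE (bdg_cons c L).symm ?_
    obtain ⟨g, hg⟩ := gen_blocks L
    refine ⟨Fin.cons (Sum.elim (Pi.single (0 : Fin (c.1 + 1)) (1 : F)) (0 : Fin (size L) → F))
      fun i => Sum.elim (0 : Fin (c.1 + 1) → F) (g i), fun U hU hgU => ?_⟩
    have hr := hg (U.comap
      ({ toFun := fun v => Sum.elim (0 : Fin (c.1 + 1) → F) v
         map_add' := fun a b => by ext (i | i) <;> simp
         map_smul' := fun a b => by ext (i | i) <;> simp } :
        (Fin (size L) → F) →ₗ[F] (Fin (c.1 + 1) ⊕ Fin (size L) → F))) (fun v hv => by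
      have := hU _ hv
      show Sum.elim (0 : Fin (c.1 + 1) → F) (bdg L *ᵥ v) ∈ U
      simpa [fromBlocks_mulVec] using this) fun i => by simpa using hgU i.succ
    have hl : ∀ i : Fin (c.1 + 1), Sum.elim (Pi.single i 1) (0 : Fin (size L) → F) ∈ U := by
      intro i
      obtain ⟨i, hi⟩ := i
      induction i with
      | zero => simpa using hgU 0
      | succ i ih =>
        have := hU _ (ih (by omega))
        rw [fromBlocks_mulVec, Sum.elim_comp_inl, Sum.elim_comp_inr, comp_mulVec_single c.2 (show i < c.1 by omega),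
          Matrix.zero_mulVec, Matrix.mulVec_zero, add_zero, add_zero, Matrix.zero_mulVec] at this
        exact this
    refine eq_top_iff.2 fun v _ => ?_
    have e : v = ∑ i, v (Sum.inl i) • Sum.elim (Pi.single i (1 : F)) (0 : Fin (size L) → F) +
        Sum.elim (0 : Fin (c.1 + 1) → F) (v ∘ Sum.inr) := by
      funext j
      rcases j with j | j
      · simp [Finset.sum_apply, Pi.single_apply]
      · simp [Finset.sum_apply]
    rw [e]
    refine U.add_mem (U.sum_mem fun i _ => U.smul_mem _ (hl i)) ?_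
    have h' := hr.ge (show (v ∘ Sum.inr) ∈ ⊤ from Submodule.mem_top)
    exact h'

theorem length_le_size : ∀ L : List (Blk F), L.length ≤ size L
  | [] => le_rfl
  | c :: L => by have := length_le_size L; simp [size]; omega

/-- Without three 1-blocks, two 2-blocks or a 3-block there are few blocks. -/
theorem count_bound : ∀ L : List (Blk F), L.countP (fun c => c.1 == 2) = 0 →
    4 * L.length ≤ size L + 3 * L.countP (fun c => c.1 == 0) + 2 * L.countP (fun c => c.1 == 1)
  | [], _ => by simp
  | ⟨d, a⟩ :: L, h => by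
    have h2 : d ≠ 2 := fun e => by simp [e] at h
    have hL : L.countP (fun c => c.1 == 2) = 0 := by simpa [List.countP_cons, h2] using h
    have := count_bound L hL
    rcases Nat.lt_or_ge d 2 with hd | hd
    · interval_cases d <;> simp [size, List.countP_cons] <;> omega
    · have h0 : d ≠ 0 := by omega
      have h1 : d ≠ 1 := by omega
      simp [size, List.countP_cons, h0, h1]
      omega

end CfsgLib.OreSmall
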