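import Cfsg.Agent.Lib.OreSmall.Main
import Cfsg.Agent.Lib.OreLevi.OrthPlus

/-!
The factorisation lemma for the orthogonal groups over a field with two elements.
-/

set_option autoImplicit false

namespace CfsgLib.OreSmall

open Matrix Polynomial CfsgLib.PSLCover
open CfsgLib.OreLevi.OrthPlus (TwistFree)

theorem isUnit_of_fac {n k : ℕ} {A : Matrix (Fin n) (Fin n) (ZMod 2)} (h : Fac k A) :
    ∃ s z : GL (Fin n) (ZMod 2), ((s * z * s⁻¹ * z⁻¹ : GL (Fin n) (ZMod 2)) : Matrix _ _ (ZMod 2)) = A ∧
      TF (s : Matrix (Fin n) (Fin n) (ZMod 2)) ∧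
      IsUnit ((s : Matrix (Fin n) (Fin n) (ZMod 2)) * s + s + 1) := by
  obtain ⟨P, -, hP, s, z, e, hs, ht⟩ := h
  refine ⟨s, z, e, ht, ?_⟩
  obtain ⟨u, v, huv⟩ := hP.of_mul_right_right (y := r3 * r4) (z := pw)
  have := congrArg (aeval (s : Matrix (Fin n) (Fin n) (ZMod 2))) huv
  simp only [map_add, map_mul, map_one, hs, mul_zero, zero_add, pw, map_pow, aeval_X, pow_two] at this
  exact IsUnit.of_mul_eq_one_right _ this

/-- Over two elements every matrix of determinant one and size at least four is a suitable commutator. -/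
theorem exists_fac_two {F : Type*} [Field F] (hq : Nat.card F = 2) {n : ℕ} (hn : 4 ≤ n)
    (A : Matrix (Fin n) (Fin n) F) (hdet : A.det = 1) :
    ∃ s z : GL (Fin n) F,
      A = (s : Matrix (Fin n) (Fin n) F) * z * (s⁻¹ : GL (Fin n) F) * (z⁻¹ : GL (Fin n) F) ∧
        IsSquare (s : Matrix (Fin n) (Fin n) F).det ∧ IsSquare (z : Matrix (Fin n) (Fin n) F).det ∧
        TwistFree (s : Matrix (Fin n) (Fin n) F) ∧
        IsUnit ((s : Matrix (Fin n) (Fin n) F) * s + s + 1).det := by
  haveI : Finite F := Nat.finite_of_card_ne_zero (by omega)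
  haveI := Fintype.ofFinite F
  let e : ZMod 2 ≃+* F := ZMod.ringEquivOfPrime F Nat.prime_two (by rw [← Nat.card_eq_fintype_card, hq])
  have hsq : ∀ x : F, x ≠ 0 → IsSquare x := fun x hx => by
    have h1 : ∀ y : ZMod 2, y ≠ 0 → y = 1 := by decide
    have : e.symm x = 1 := h1 _ fun h => hx (by simpa using congrArg e h)
    exact ⟨1, by rw [mul_one, ← e.apply_symm_apply x, this, map_one]⟩
  let r : Matrix (Fin n) (Fin n) (ZMod 2) ≃+* Matrix (Fin n) (Fin n) F := e.mapMatrix
  have hd : (r.symm A).det ≠ 0 := by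
    show (A.map e.symm).det ≠ 0
    have := (e.symm.toRingHom.map_det A)
    simp only [hdet, map_one] at this
    intro h
    exact one_ne_zero (this.trans h)
  obtain ⟨s, z, he, htf, hW⟩ := isUnit_of_fac (fac_main hn (r.symm A) hd)
  let u : GL (Fin n) (ZMod 2) →* GL (Fin n) F := Units.map r.toRingHom.toMonoidHom
  refine ⟨u s, u z, ?_, hsq _ ((Matrix.isUnit_iff_isUnit_det _).1 (u s).isUnit).ne_zero,
    hsq _ ((Matrix.isUnit_iff_isUnit_det _).1 (u z).isUnit).ne_zero, ?_, ?_⟩
  · rw [← map_inv u, ← map_inv u, ← Units.val_mul, ← Units.val_mul, ← Units.val_mul, ← map_mul, ← map_mul, ← map_mul]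
    show A = r _
    rw [he, RingEquiv.apply_symm_apply]
  · intro X hX hfix
    have hY : Alt (r.symm X) := fun x => by
      have h0 := congrArg e.symm (hX (fun i => e (x i)))
      rw [map_zero] at h0
      rw [← h0]
      show x ⬝ᵥ (X.map e.symm *ᵥ x) = _
      simp [dotProduct, Matrix.mulVec, map_sum]
    have hu : ((u s : GL (Fin n) F) : Matrix (Fin n) (Fin n) F) = r (s : Matrix (Fin n) (Fin n) (ZMod 2)) := rfl
    have hz : r.symm X = 0 := by
      refine htf _ hY ?_
      have ht : ∀ M : Matrix (Fin n) (Fin n) F, r.symm Mᵀ = (r.symm M)ᵀ := fun M => rfl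
      rcases hfix with h | h
      · left
        have := congrArg r.symm h
        rwa [map_mul, map_mul, ht, hu, RingEquiv.symm_apply_apply] at this
      · right
        have := congrArg r.symm h
        rwa [map_mul, map_mul, ht, hu, RingEquiv.symm_apply_apply] at this
    rw [← r.apply_symm_apply X, hz, map_zero]
  · rw [← Matrix.isUnit_iff_isUnit_det]
    have := hW.map r
    rwa [map_add, map_add, map_mul, map_one] at this

end CfsgLib.OreSmall
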