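import Cfsg.Agent.Lib.OreSmall.Base
import Cfsg.Agent.Lib.SpComm.Three

/-!
Every invertible matrix of size at least four over the field with two elements is a commutator
`s z s⁻¹ z⁻¹` with `s` fixing no alternating form and without eigenvalues of order three.
-/

set_option autoImplicit false
set_option linter.unusedSectionVars false

namespace CfsgLib.OreSmall

open Matrix Polynomial CfsgLib.PSLCover
open CfsgLib.SpComm (Good exists_singer natDegree_reverse irreducible_reverse reverse_reverse' aeval_reflect)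

local notation "𝔽₂" => ZMod 2

variable {n a : ℕ}

theorem coprime_of_deg_gt {P Q : (ZMod 2)[X]} (hP : Irreducible P) {k : ℕ} (hk : k < P.natDegree)
    (hQ : ∀ q : (ZMod 2)[X], Irreducible q → q ∣ Q → q.natDegree ≤ k) : IsCoprime P Q :=
  hP.coprime_iff_not_dvd.2 fun h => by
    have := hQ P hP h
    omega

theorem cyclic_of_irreducible {P : (ZMod 2)[X]} (hP : Irreducible P) (hd : P.natDegree = a)
    {M : Matrix (Fin a) (Fin a) (ZMod 2)} (h : aeval M P = 0) {v : Fin a → ZMod 2} (hv : v ≠ 0) :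
    IsCyclicVec M v := by
  intro f hf hfv
  by_contra h0
  have hdeg : f.natDegree < a := by
    by_contra hge
    exact h0 (leadingCoeff_eq_zero.1 (hf _ (by omega)))
  obtain ⟨u, w, huw⟩ := hP.coprime_iff_not_dvd.2 fun hdvd => by
    have := natDegree_le_of_dvd hdvd h0
    omega
  refine hv ?_
  have := congrArg (fun p => aeval M p *ᵥ v) huw
  simp only [map_add, map_mul, map_one, Matrix.one_mulVec, Matrix.add_mulVec, ← Matrix.mulVec_mulVec, hfv, h,
    Matrix.mulVec_zero, Matrix.zero_mulVec, add_zero] at this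
  exact this.symm

/-- The inverse of an element with irreducible polynomial is a commutator. -/
theorem part_of (ha : 0 < a) {P : (ZMod 2)[X]} {s : GL (Fin a) (ZMod 2)} (hP : Irreducible P) (hd : P.natDegree = a)
    (hg : Good P) (hs : aeval (s : Matrix (Fin a) (Fin a) (ZMod 2)) P = 0) :
    ∃ w, Has P ((s⁻¹ : GL (Fin a) (ZMod 2)) : Matrix (Fin a) (Fin a) (ZMod 2)) ∧
      IsCyclicVec ((s⁻¹ : GL (Fin a) (ZMod 2)) : Matrix (Fin a) (Fin a) (ZMod 2)) w := by
  set sm := (s : Matrix (Fin a) (Fin a) (ZMod 2)) with hsm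
  have hv : (Pi.single (⟨0, ha⟩ : Fin a) (1 : ZMod 2) : Fin a → ZMod 2) ≠ 0 := by simp
  have hsq : aeval (sm * sm) P = 0 := by
    rw [← pow_two, ← expand_aeval, ZMod.expand_card, map_pow, hs, zero_pow two_ne_zero]
  have hPm : P.Monic := by
    have h1 : ∀ x : ZMod 2, x ≠ 0 → x = 1 := by decide
    exact h1 _ (leadingCoeff_ne_zero.2 hP.ne_zero)
  have c1 := cyclic_of_irreducible hP hd hs hv
  have c2 := cyclic_of_irreducible hP hd hsq hv
  obtain ⟨M, hM, e⟩ := glSim_of_cyclicVec c1 c2 (by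
    rw [c1.charpoly_eq hPm hd (by rw [hs, Matrix.zero_mulVec]), c2.charpoly_eq hPm hd (by rw [hsq, Matrix.zero_mulVec])])
  let z : GL (Fin a) (ZMod 2) := GeneralLinearGroup.mkOfDetNeZero M hM
  have hz : z * s = s * s * z := Units.ext e
  refine ⟨Pi.single (⟨0, ha⟩ : Fin a) (1 : ZMod 2), ⟨s, z, ?_, hs, tf_of_good hg s hs⟩, fun f hf hfv => ?_⟩
  · congr 1
    have h1 : z * s⁻¹ * z⁻¹ = (s * s)⁻¹ := by
      rw [eq_inv_iff_mul_eq_one, mul_assoc, mul_assoc, show z⁻¹ * (s * s) = s * z⁻¹ by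
        rw [eq_mul_inv_iff_mul_eq, mul_assoc, ← hz, inv_mul_cancel_left]]
      group
    rw [show s * z * s⁻¹ * z⁻¹ = s * (z * s⁻¹ * z⁻¹) by group, h1]
    group
  · by_contra h0
    have hdeg : f.natDegree < a := by
      by_contra hge
      exact h0 (leadingCoeff_eq_zero.1 (hf _ (by omega)))
    have hr := aeval_reflect s (a - 1) f (by omega)
    have h2 : aeval sm (reflect (a - 1) f) *ᵥ Pi.single (⟨0, ha⟩ : Fin a) (1 : ZMod 2) = 0 := by
      rw [hsm, hr, ← Matrix.mulVec_mulVec, hfv, Matrix.mulVec_zero]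
    have h3 := c1 (reflect (a - 1) f) (fun l hl => by
      rw [coeff_reflect, revAt_eq_self_of_lt (by omega : a - 1 < l)]
      exact hf l hl) h2
    exact h0 (by simpa using congrArg (reflect (a - 1)) h3)

/-- The large corner. -/
theorem exists_part (ha : 4 ≤ a) : ∃ (P : (ZMod 2)[X]) (A : Matrix (Fin a) (Fin a) (ZMod 2)) (w : Fin a → ZMod 2),
    Irreducible P ∧ P.natDegree = a ∧ P.reverse.natDegree = a ∧ Irreducible P.reverse ∧ IsCoprime P ee ∧ Has P A ∧
      IsCyclicVec A w ∧ A.det ≠ 0 := by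
  have hq : 2 < (Nat.card (ZMod 2) - 1) * Nat.card (ZMod 2) ^ (a - 1) := by
    rw [Nat.card_zmod]
    calc 2 < (2 - 1) * 2 ^ 3 := by norm_num
      _ ≤ (2 - 1) * 2 ^ (a - 1) := by gcongr <;> omega
  obtain ⟨P, s, hP, hd, hg, hs⟩ := exists_singer (ZMod 2) hq (by omega)
  have hc0 : ∀ {Q : (ZMod 2)[X]}, Irreducible Q → Q.natDegree = a → Q.coeff 0 ≠ 0 := fun {Q} hQ hQd h0 => by
    obtain ⟨r, hr⟩ := X_dvd_iff.2 h0
    obtain ⟨u, hu, rfl⟩ := Polynomial.isUnit_iff.1 ((hQ.isUnit_or_isUnit hr).resolve_left not_isUnit_X)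
    rw [hr, natDegree_X_mul (by simpa using hu.ne_zero), natDegree_C] at hQd
    omega
  have key : ∀ (Q : (ZMod 2)[X]) (t : GL (Fin a) (ZMod 2)), Irreducible Q → Q.natDegree = a → Good Q →
      aeval (t : Matrix (Fin a) (Fin a) (ZMod 2)) Q = 0 → ¬ Q ∣ r4 →
      ∃ (P : (ZMod 2)[X]) (A : Matrix (Fin a) (Fin a) (ZMod 2)) (w : Fin a → ZMod 2),
        Irreducible P ∧ P.natDegree = a ∧ P.reverse.natDegree = a ∧ Irreducible P.reverse ∧ IsCoprime P ee ∧
          Has P A ∧ IsCyclicVec A w ∧ A.det ≠ 0 := by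
    intro Q t hQ hQd hQg ht hn
    obtain ⟨w, h1, h2⟩ := part_of (by omega) hQ hQd hQg ht
    refine ⟨Q, _, w, hQ, hQd, by rw [natDegree_reverse (hc0 hQ hQd), hQd], irreducible_reverse hQ (hc0 hQ hQd), ?_, h1,
      h2, ((Matrix.isUnit_iff_isUnit_det _).1 (Units.isUnit _)).ne_zero⟩
    have small : ∀ R : (ZMod 2)[X], R ≠ 0 → R.natDegree < a → IsCoprime Q R := fun R hR0 hR =>
      hQ.coprime_iff_not_dvd.2 fun h => by
        have := natDegree_le_of_dvd h hR0
        omega
    exact (IsCoprime.mul_right (small r3 (ne_zero_of_deg r3_deg) (by rw [r3_deg]; omega))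
      (hQ.coprime_iff_not_dvd.2 hn)).mul_right (small pw (ne_zero_of_deg pw_deg) (by rw [pw_deg]; omega))
  by_cases h4 : P ∣ r4
  · have hc := hc0 hP hd
    refine key P.reverse s⁻¹ (irreducible_reverse hP hc) (by rw [natDegree_reverse hc, hd]) ?_ ?_ fun h => ?_
    · show IsCoprime P.reverse P.reverse.reverse
      rw [reverse_reverse' hc]
      exact hg.symm
    · rw [Polynomial.reverse, aeval_reflect s⁻¹ _ P le_rfl, inv_inv, hs, mul_zero]
    · obtain ⟨r, hr⟩ := h4
      have h' : P.reverse ∣ p4 := ⟨r.reverse, by rw [← r4_rev, hr, reverse_mul_of_domain]⟩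
      exact (irreducible_reverse hP hc).not_isUnit (cop_p4_r4.isUnit_of_dvd' h' h)
  · exact key P s hP hd hg hs h4

/-- Splitting off a summand given by a checked list. -/
theorem fac_split {Q : (ZMod 2)[X]} {I L : List (Blk (ZMod 2))} {x : Matrix (Fin n) (Fin n) (ZMod 2)}
    (hsim : GLSimE x (bdg (I ++ L))) (hQ : Has Q (bdg I)) {k k' : ℕ}
    (hk : k' ≤ k) (hQd : ∀ q : (ZMod 2)[X], Irreducible q → q ∣ Q → q.natDegree ≤ k) (hQc : IsCoprime Q ee)
    (hQr : Q.reverse ∣ ee) (h : Fac k' (bdg L)) : Fac k x := by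
  obtain ⟨P, hP1, hP2, hP3⟩ := h
  have hcop : IsCoprime Q.reverse P := (hP2.of_isCoprime_of_dvd_right hQr).symm
  refine ⟨Q * P, fun q hq hd => deg_dvd_mul hq hd (hQd q hq) fun h => (hP1 q hq h).trans hk, hQc.mul_left hP2, ?_⟩
  refine Has.of_glSimE ?_ (hQ.sum hcop hP3)
  refine GLSimE.symm (hsim.trans ?_)
  clear hQ hsim
  induction I with
  | nil =>
    haveI : IsEmpty (Fin (size ([] : List (Blk (ZMod 2))))) := inferInstanceAs (IsEmpty (Fin 0))
    exact ((glSimE_fromBlocks_comm _ _).trans (glSimE_fromBlocks_empty _ _)).symm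
  | cons c I ih =>
    refine (bdg_cons c (I ++ L)).trans ((GLSimE.fromBlocks_right _ ih).trans ?_)
    exact (glSimE_fromBlocks_assoc _ _ _).symm.trans ((bdg_cons c I).symm.fromBlocks (GLSimE.refl _))

theorem det_drop : ∀ {I L : List (Blk (ZMod 2))}, (bdg (I ++ L)).det ≠ 0 → (bdg L).det ≠ 0
  | [], _, h => h
  | _ :: I, _, h => det_drop (I := I) (det_cons h).2

theorem size_append : ∀ I L : List (Blk (ZMod 2)), size (I ++ L) = size I + size L
  | [], L => by simp [size]
  | c :: I, L => by simp [size, size_append I L]; omega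

/-- The induction. -/
theorem fac_main : ∀ {n : ℕ}, 4 ≤ n → ∀ x : Matrix (Fin n) (Fin n) (ZMod 2), x.det ≠ 0 → Fac (n - 1) x := by
  intro n
  induction n using Nat.strong_induction_on with
  | _ n ih =>
  intro hn4 x hx
  rcases Nat.lt_or_ge n 8 with h7 | hn8
  · exact fac_base hn4 (by omega) x hx
  obtain ⟨ks, hsim, hks, -⟩ := exists_codes x hx
  set L := ks.map ofCode with hL
  have hdet : (bdg L).det ≠ 0 := det_ne_of_sim hsim hx
  have hsize : n = size L := size_eq_of_sim hsim
  rcases Nat.lt_or_ge n (2 * max L.length 4) with hbig | hsmall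
  · -- split off a small summand
    have h4r : 4 < L.length := by omega
    have hcase : 1 ≤ L.countP (fun c => c.1 == 2) ∨ 2 ≤ L.countP (fun c => c.1 == 1) ∨
        3 ≤ L.countP (fun c => c.1 == 0) := by
      by_contra hno
      push Not at hno
      have := count_bound L (by omega)
      omega
    have rec' : ∀ (I L' : List (Blk (ZMod 2))), GLSimE x (bdg (I ++ L')) → 1 ≤ size I ∧ size I ≤ 4 → Fac (size L' - 1) (bdg L') ∧
        size L' - 1 ≤ n - 1 := by
      intro I L' h hI
      obtain ⟨hI1, hI⟩ := hI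
      have hsz := size_eq_of_sim h
      rw [size_append] at hsz
      refine ⟨?_, by omega⟩
      exact ih _ (by omega) (by omega) _ (det_drop (det_ne_of_sim h hx))
    have code_of : ∀ {c : Blk (ZMod 2)} {L' : List (Blk (ZMod 2))}, GLSimE x (bdg (c :: L')) →
        ∃ e < 2 ^ c.1, ofCode (c.1, 2 * e + 1) = c := fun {c L'} h =>
      exists_code c (det_blocks (det_ne_of_sim h hx) c List.mem_cons_self)
    rcases hcase with h2 | h1 | h0
    · obtain ⟨⟨d, f⟩, L', hd, -, hs'⟩ := exists_take _ h2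
      simp only [beq_iff_eq] at hd
      subst hd
      obtain ⟨e, he, hce⟩ := code_of (hsim.trans hs')
      have hI : GLSimE x (bdg ([(2, 2 * e + 1)].map ofCode ++ L')) := by
        rw [List.map_singleton, List.singleton_append, hce]; exact hsim.trans hs'
      obtain ⟨hf, hle⟩ := rec' _ L' hI (by simp [size])
      refine fac_split hI (has_of_table three_unit ⟨aeval_p3, tf_p3⟩ three_check ?_ (by simp [size]))
        hle (fun q _ h => (deg_dvd_le (ne_zero_of_deg p3_deg) le_rfl h).trans (by rw [p3_deg]; omega))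
        cop_p3_ee (by rw [p3_rev]; exact dvd_mul_of_dvd_left (dvd_mul_right _ _) _) hf
      have he' : e < 4 := by simpa using he
      interval_cases e <;> simp
    · obtain ⟨⟨d, f⟩, L1, hd, hc1, hs1⟩ := exists_take _ (show 1 ≤ L.countP (fun c => c.1 == 1) by omega)
      obtain ⟨⟨d', f'⟩, L', hd', -, hs2⟩ := exists_take _ (show 1 ≤ L1.countP (fun c => c.1 == 1) by omega)
      simp only [beq_iff_eq] at hd hd'
      subst hd hd'
      have h12 : GLSimE x (bdg (⟨1, f⟩ :: ⟨1, f'⟩ :: L')) :=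
        hsim.trans (hs1.trans (((bdg_cons _ _).trans (GLSimE.fromBlocks_right _ hs2)).trans (bdg_cons _ _).symm))
      obtain ⟨e, he, hce⟩ := code_of h12
      obtain ⟨e', he', hce'⟩ := exists_code (⟨1, f'⟩ : Blk (ZMod 2))
        (det_blocks (det_ne_of_sim h12 hx) _ (List.mem_cons_of_mem _ List.mem_cons_self))
      have hI : GLSimE x (bdg ([(1, 2 * e + 1), (1, 2 * e' + 1)].map ofCode ++ L')) := by
        rw [List.map_cons, List.map_singleton, hce, hce']; exact h12
      obtain ⟨hf, hle⟩ := rec' _ L' hI (by simp [size])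
      refine fac_split hI (has_of_table fourPair_unit ⟨aeval_p4, tf_p4⟩ fourPair_check ?_ (by simp [size]))
        hle (fun q _ h => (deg_dvd_le (ne_zero_of_deg p4_deg) le_rfl h).trans (by rw [p4_deg]; omega))
        cop_p4_ee (by rw [p4_rev]; exact dvd_mul_of_dvd_left (dvd_mul_left _ _) _) hf
      have h2e : e < 2 := by simpa using he
      have h2e' : e' < 2 := by simpa using he'
      interval_cases e <;> interval_cases e' <;> simp
    · obtain ⟨⟨d, f⟩, L1, hd, hc1, hs1⟩ := exists_take _ (show 1 ≤ L.countP (fun c => c.1 == 0) by omega)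
      obtain ⟨⟨d', f'⟩, L2, hd', hc2, hs2⟩ := exists_take _ (show 1 ≤ L1.countP (fun c => c.1 == 0) by omega)
      obtain ⟨⟨d'', f''⟩, L', hd'', -, hs3⟩ := exists_take _ (show 1 ≤ L2.countP (fun c => c.1 == 0) by omega)
      simp only [beq_iff_eq] at hd hd' hd''
      subst hd hd' hd''
      have h123 : GLSimE x (bdg (⟨0, f⟩ :: ⟨0, f'⟩ :: ⟨0, f''⟩ :: L')) :=
        hsim.trans (hs1.trans (((bdg_cons _ _).trans (GLSimE.fromBlocks_right _ (hs2.trans
          (((bdg_cons _ _).trans (GLSimE.fromBlocks_right _ hs3)).trans (bdg_cons _ _).symm)))).trans (bdg_cons _ _).symm))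
      have hone : ∀ g : Fin 1 → ZMod 2, (⟨0, g⟩ : Blk (ZMod 2)) ∈
          (⟨0, f⟩ :: ⟨0, f'⟩ :: ⟨0, f''⟩ :: L' : List (Blk (ZMod 2))) → ofCode (0, 1) = ⟨0, g⟩ := by
        intro g hg
        obtain ⟨e, he, hce⟩ := exists_code _ (det_blocks (det_ne_of_sim h123 hx) _ hg)
        have he0 : e = 0 := by simpa using he
        subst he0
        exact hce
      have hI : GLSimE x (bdg ([(0, 1), (0, 1), (0, 1)].map ofCode ++ L')) := by
        show GLSimE x (bdg (ofCode (0, 1) :: ofCode (0, 1) :: ofCode (0, 1) :: L'))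
        rw [show ofCode (0, 1) :: ofCode (0, 1) :: ofCode (0, 1) :: L' = ⟨0, f⟩ :: ⟨0, f'⟩ :: ⟨0, f''⟩ :: L' by
          simp only [List.cons_eq_cons, and_true]
          exact ⟨hone f (by simp), hone f' (by simp), hone f'' (by simp)⟩]
        exact h123
      obtain ⟨hf, hle⟩ := rec' _ L' hI (by simp [size])
      exact fac_split hI (has_of_table three_unit ⟨aeval_p3, tf_p3⟩ three_check (by simp) (by simp [size]))
        hle (fun q _ h => (deg_dvd_le (ne_zero_of_deg p3_deg) le_rfl h).trans (by rw [p3_deg]; omega))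
        cop_p3_ee (by rw [p3_rev]; exact dvd_mul_of_dvd_left (dvd_mul_right _ _) _) hf
  · -- glue a large cyclic corner
    set b := max L.length 4 with hb
    obtain ⟨P, A, w, hP, hPd, hPrd, hPr, hPe, hPA, hw, hAd⟩ := exists_part (a := n - b) (by omega)
    have hgen : Gen x L.length := Gen.of_glSimE hsim.symm (gen_blocks L)
    obtain ⟨X, Y, D, hXY⟩ := exists_corner x (b := b) hgen (le_max_left _ _) (show n - b + b = n by omega) (by omega) hw hAd
    have hDd : D.det ≠ 0 := by
      have h1 : fromBlocks A (A * Y) (X * A) (X * A * Y + D) = fromBlocks A 0 (X * A) D * fromBlocks 1 Y 0 1 := by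
        rw [fromBlocks_multiply]; simp
      have h2 := det_ne_of_sim hXY hx
      rw [h1, det_mul, det_fromBlocks_zero₁₂] at h2
      exact right_ne_zero_of_mul (left_ne_zero_of_mul h2)
    obtain ⟨Q, hQ1, hQ2, hQ3⟩ := ih b (by omega) (le_max_right _ _) D hDd
    refine ⟨P * Q, fun q hq hd => deg_dvd_mul hq hd
      (fun h => (deg_dvd_le hP.ne_zero le_rfl h).trans (by omega)) fun h => (hQ1 q hq h).trans (by omega),
      hPe.mul_left hQ2, ?_⟩
    exact Has.of_glSimE hXY.symm (hPA.lu (coprime_of_deg_gt hP (by omega) hQ1)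
      (coprime_of_deg_gt hPr (by omega) hQ1) hQ3 X Y)

end CfsgLib.OreSmall
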