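import Cfsg.Agent.Lib.PSLCover.Cyclic
import Cfsg.Agent.Lib.OreSmall.Basic

/-!
Pole placement: a controllable pair can be fed back to a cyclic matrix with any characteristic polynomial;
hence a matrix generated by `b` vectors has a block form with prescribed corner of size `n - b`.
-/

set_option autoImplicit false
set_option linter.unusedSectionVars false

namespace CfsgLib.OreSmall

open Matrix Polynomial CfsgLib.PSLCover

variable {F : Type*} [Field F] [Fintype F] {a b n : ℕ}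

/-- Only the whole space is invariant under `M` and contains the columns of `G`. -/
def Ctrl (M : Matrix (Fin a) (Fin a) F) (G : Matrix (Fin a) (Fin b) F) : Prop :=
  ∀ U : Submodule F (Fin a → F), (∀ v ∈ U, M *ᵥ v ∈ U) → (∀ w, G *ᵥ w ∈ U) → U = ⊤

theorem exists_chain {M : Matrix (Fin a) (Fin a) F} {G : Matrix (Fin a) (Fin b) F} (h : Ctrl M G) :
    ∀ k, k < a → ∃ v : Fin (k + 1) → Fin a → F, LinearIndependent F v ∧ (∃ u, G *ᵥ u = v 0) ∧
      ∀ i : Fin k, ∃ u, v i.succ = M *ᵥ v i.castSucc + G *ᵥ u := by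
  intro k
  induction k with
  | zero =>
    intro hk
    obtain ⟨u, hu⟩ : ∃ u, G *ᵥ u ≠ 0 := by
      by_contra hG
      push Not at hG
      have := h ⊥ (fun v hv => by rw [(Submodule.mem_bot F).1 hv, Matrix.mulVec_zero]; exact zero_mem _)
        (fun w => (Submodule.mem_bot F).2 (hG w))
      have h1 : (Pi.single (⟨0, hk⟩ : Fin a) (1 : F)) ∈ (⊥ : Submodule F (Fin a → F)) := this ▸ Submodule.mem_top
      simpa using congrFun ((Submodule.mem_bot F).1 h1) ⟨0, hk⟩
    haveI : Subsingleton (Fin (0 + 1)) := inferInstanceAs (Subsingleton (Fin 1))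
    exact ⟨fun _ => G *ᵥ u, LinearIndependent.of_subsingleton (0 : Fin 1) hu, ⟨u, rfl⟩, fun i => i.elim0⟩
  | succ k ih =>
    intro hk
    obtain ⟨v, hv, h0, hstep⟩ := ih (by omega)
    set S := Submodule.span F (Set.range v)
    obtain ⟨u, hu⟩ : ∃ u, M *ᵥ v (Fin.last k) + G *ᵥ u ∉ S := by
      by_contra hall
      push Not at hall
      have hlast : M *ᵥ v (Fin.last k) ∈ S := by simpa using hall 0
      have hG : ∀ w, G *ᵥ w ∈ S := fun w => by simpa using S.sub_mem (hall w) hlast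
      have hinv : ∀ x ∈ S, M *ᵥ x ∈ S := by
        intro x hx
        refine Submodule.span_induction ?_ (by simp) (fun y z _ _ hy hz => ?_) (fun c y _ hy => ?_) hx
        · rintro _ ⟨i, rfl⟩
          refine Fin.lastCases hlast (fun j => ?_) i
          obtain ⟨u, hu⟩ := hstep j
          have : M *ᵥ v j.castSucc = v j.succ - G *ᵥ u := eq_sub_of_add_eq hu.symm
          rw [this]
          exact S.sub_mem (Submodule.subset_span ⟨_, rfl⟩) (hG u)
        · rw [Matrix.mulVec_add]; exact S.add_mem hy hz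
        · rw [Matrix.mulVec_smul]; exact S.smul_mem c hy
      have := h S hinv hG
      exact span_range_ne_top (by simpa using hk) v this
    refine ⟨Fin.snoc v (M *ᵥ v (Fin.last k) + G *ᵥ u), linearIndependent_finSnoc.2 ⟨hv, hu⟩, ?_, ?_⟩
    · obtain ⟨u0, hu0⟩ := h0
      exact ⟨u0, by rw [hu0, show (0 : Fin (k + 2)) = Fin.castSucc (0 : Fin (k + 1)) from rfl, Fin.snoc_castSucc]⟩
    · intro i
      refine Fin.lastCases ⟨u, by rw [Fin.succ_last, Fin.snoc_last, Fin.snoc_castSucc]⟩ (fun j => ?_) i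
      obtain ⟨w, hw⟩ := hstep j
      exact ⟨w, by rw [Fin.succ_castSucc, Fin.snoc_castSucc, Fin.snoc_castSucc, hw]⟩

/-- Pole placement. -/
theorem exists_feedback {M : Matrix (Fin a) (Fin a) F} {G : Matrix (Fin a) (Fin b) F} (h : Ctrl M G) (ha : 0 < a)
    {R : F[X]} (hR : R.Monic) (hd : R.natDegree = a) :
    ∃ (Ψ : Matrix (Fin b) (Fin a) F) (v : Fin a → F),
      IsCyclicVec (M + G * Ψ) v ∧ (M + G * Ψ).charpoly = R := by
  obtain ⟨k, rfl⟩ : ∃ k, a = k + 1 := ⟨a - 1, by omega⟩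
  obtain ⟨v, hv, ⟨u0, hu0⟩, hstep⟩ := exists_chain h k (Nat.lt_succ_self k)
  choose u hu using hstep
  let bs := basisOfLinearIndependentOfCardEqFinrank hv (by simp)
  let K : (Fin (k + 1) → F) →ₗ[F] (Fin b → F) := bs.constr F (Fin.snoc u 0)
  set Km := LinearMap.toMatrix' K
  have hK : ∀ i : Fin k, Km *ᵥ v i.castSucc = u i := fun i => by
    rw [← Matrix.toLin'_apply, Matrix.toLin'_toMatrix']
    have hb : v i.castSucc = bs i.castSucc := by simp [bs]
    rw [hb, Module.Basis.constr_basis, Fin.snoc_castSucc]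
  have hcyc : IsCyclicVec (M + G * Km) (v 0) := by
    have hp : ∀ i : Fin (k + 1), (M + G * Km) ^ (i : ℕ) *ᵥ v 0 = v i := by
      intro i
      induction i using Fin.induction with
      | zero => simp
      | succ j ih =>
        rw [Fin.val_succ, pow_succ', ← Matrix.mulVec_mulVec]
        rw [show ((j.castSucc : Fin (k + 1)) : ℕ) = (j : ℕ) from rfl] at ih
        rw [ih, hu j, Matrix.add_mulVec, ← Matrix.mulVec_mulVec, hK]
    refine isCyclicVec_of_det fun hd0 => ?_
    obtain ⟨c, hc, hc'⟩ := Matrix.exists_mulVec_eq_zero_iff.mpr hd0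
    refine hc (funext fun i => Fintype.linearIndependent_iff.1 hv c ?_ i)
    rw [← hc']
    funext r
    show (∑ i, c i • v i) r = ∑ j : Fin (k + 1), ((M + G * Km) ^ (j : ℕ) *ᵥ v 0) r * c j
    simp [Finset.sum_apply, hp, mul_comm]
  obtain ⟨φ, hφ, hchar⟩ := exists_update hcyc hR hd
  have heq : M + G * (Km + vecMulVec u0 φ) = M + G * Km + vecMulVec (v 0) φ := by
    rw [Matrix.mul_add, ← add_assoc, Matrix.mul_vecMulVec, hu0]
  exact ⟨Km + vecMulVec u0 φ, v 0, by rw [heq]; exact hφ, by rw [heq]; exact hchar⟩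

/-- The module of `x` is generated by `r` vectors. -/
def Gen {ι : Type*} [Fintype ι] (x : Matrix ι ι F) (r : ℕ) : Prop :=
  ∃ g : Fin r → ι → F, ∀ U : Submodule F (ι → F), (∀ v ∈ U, x *ᵥ v ∈ U) → (∀ i, g i ∈ U) → U = ⊤

theorem exists_above (S : Submodule F (Fin n → F)) {k : ℕ} (h1 : Module.finrank F S ≤ k) (h2 : k ≤ n) :
    ∃ W : Submodule F (Fin n → F), S ≤ W ∧ Module.finrank F W = k := by
  induction k with
  | zero => exact ⟨S, le_rfl, Nat.le_zero.1 h1⟩
  | succ k ih =>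
    by_cases hS : Module.finrank F S = k + 1
    · exact ⟨S, le_rfl, hS⟩
    obtain ⟨W, hW, hd⟩ := ih (by omega) (by omega)
    obtain ⟨v, hv⟩ : ∃ v, v ∉ W := by
      by_contra hall
      push Not at hall
      rw [Submodule.eq_top_iff'.2 hall, finrank_top, Module.finrank_fintype_fun_eq_card, Fintype.card_fin] at hd
      omega
    refine ⟨W ⊔ Submodule.span F {v}, hW.trans le_sup_left, ?_⟩
    have h0 : v ≠ 0 := fun e => hv (e ▸ W.zero_mem)
    have hinf : W ⊓ Submodule.span F {v} = ⊥ := disjoint_iff.1 ((Submodule.disjoint_span_singleton' h0).2 hv)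
    have := Submodule.finrank_sup_add_finrank_inf_eq W (Submodule.span F {v})
    rw [hinf, finrank_bot, finrank_span_singleton h0, hd] at this
    omega

/-- A block form with controllable corner. -/
theorem exists_ctrl_form (x : Matrix (Fin n) (Fin n) F) {r : ℕ} (hg : Gen x r) (hrb : r ≤ b) (hn : a + b = n) :
    ∃ (M : Matrix (Fin a) (Fin a) F) (G : Matrix (Fin a) (Fin b) F) (H : Matrix (Fin b) (Fin a) F)
      (K : Matrix (Fin b) (Fin b) F), GLSimE x (fromBlocks M G H K) ∧ Ctrl M G := by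
  classical
  obtain ⟨g, hg⟩ := hg
  obtain ⟨W, hgW, hW⟩ : ∃ W : Submodule F (Fin n → F), (∀ i, g i ∈ W) ∧ Module.finrank F W = b := by
    obtain ⟨W, hW, hdim⟩ := exists_above (Submodule.span F (Set.range g)) (k := b)
      ((finrank_range_le_card g).trans (by simpa using hrb)) (by omega)
    exact ⟨W, fun i => hW (Submodule.subset_span ⟨i, rfl⟩), hdim⟩
  obtain ⟨U0, hU0⟩ := W.exists_isCompl
  have hU : Module.finrank F U0 = a := by
    have := Submodule.finrank_add_eq_of_isCompl hU0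
    rw [hW, Module.finrank_fintype_fun_eq_card, Fintype.card_fin] at this
    omega
  let eU : (Fin a → F) ≃ₗ[F] U0 := (Module.finBasisOfFinrankEq F U0 hU).equivFun.symm
  let eW : (Fin b → F) ≃ₗ[F] W := (Module.finBasisOfFinrankEq F W hW).equivFun.symm
  let L : (Fin a ⊕ Fin b → F) ≃ₗ[F] (Fin n → F) :=
    (LinearEquiv.sumArrowLequivProdArrow _ _ F F).trans
      ((eU.prodCongr eW).trans (Submodule.prodEquivOfIsCompl U0 W hU0.symm))
  have hLv : ∀ w, L w = (eU (w ∘ Sum.inl) : Fin n → F) + (eW (w ∘ Sum.inr) : Fin n → F) := fun w => by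
    simp [L, LinearEquiv.sumArrowLequivProdArrow, Equiv.sumArrowEquivProdArrow, Function.comp_def,
      ]
    try rfl
  let y := LinearMap.toMatrix' (L.symm.toLinearMap.comp (x.mulVecLin.comp L.toLinearMap))
  have hy : ∀ w, x *ᵥ L w = L (y *ᵥ w) := fun w => by
    rw [← Matrix.toLin'_apply y, Matrix.toLin'_toMatrix']
    simp
  refine ⟨y.toBlocks₁₁, y.toBlocks₁₂, y.toBlocks₂₁, y.toBlocks₂₂,
    by rw [fromBlocks_toBlocks]; exact glSimE_of_linearEquiv L hy, fun U hUM hUG => ?_⟩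
  let U' : Submodule F (Fin n → F) :=
    (U.comap (LinearMap.funLeft F F (Sum.inl : Fin a → Fin a ⊕ Fin b))).map L.toLinearMap
  have hmem : ∀ w, w ∘ Sum.inl ∈ U → L w ∈ U' := fun w hw => ⟨w, hw, rfl⟩
  have htop : U' = ⊤ := by
    refine hg U' ?_ fun i => ?_
    · rintro _ ⟨w, hw, rfl⟩
      have hw' : w ∘ Sum.inl ∈ U := hw
      show x *ᵥ L w ∈ U'
      rw [hy]
      refine hmem _ ?_
      rw [← fromBlocks_toBlocks y, fromBlocks_mulVec, Sum.elim_comp_inl]
      exact U.add_mem (hUM _ hw') (hUG _)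
    · have e : g i = L (Sum.elim 0 (eW.symm ⟨g i, hgW i⟩)) := by
        rw [hLv]; simp
      rw [e]
      exact hmem _ (by simp)
  refine eq_top_iff.2 fun v _ => ?_
  have h1 : L (Sum.elim v 0) ∈ U' := htop ▸ Submodule.mem_top
  obtain ⟨w, hw, he⟩ := h1
  have h2 : w = Sum.elim v 0 := L.injective he
  subst h2
  simpa [LinearMap.funLeft, Function.comp_def] using hw

/-- The block form with prescribed corner. -/
theorem exists_corner (x : Matrix (Fin n) (Fin n) F) {r : ℕ} (hg : Gen x r) (hrb : r ≤ b) (hn : a + b = n) (ha : 0 < a)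
    {A : Matrix (Fin a) (Fin a) F} {w : Fin a → F} (hA : IsCyclicVec A w) (hAd : A.det ≠ 0) :
    ∃ (X : Matrix (Fin b) (Fin a) F) (Y : Matrix (Fin a) (Fin b) F) (D : Matrix (Fin b) (Fin b) F),
      GLSimE x (fromBlocks A (A * Y) (X * A) (X * A * Y + D)) := by
  classical
  obtain ⟨M, G, H, K, hx, hc⟩ := exists_ctrl_form x hg hrb hn
  obtain ⟨Ψ, v, hv, hchar⟩ := exists_feedback hc ha (charpoly_monic_deg A).1 (charpoly_monic_deg A).2
  obtain ⟨P, hP, e⟩ := glSim_of_cyclicVec hv hA hchar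
  let L : GL (Fin a ⊕ Fin b) F := lowU (-Ψ)
  let Pu : GL (Fin a) F := GeneralLinearGroup.mkOfDetNeZero P hP
  let Pi : Matrix (Fin a) (Fin a) F := ((Pu⁻¹ : GL (Fin a) F) : Matrix (Fin a) (Fin a) F)
  have hPP : P * Pi = 1 := by
    show (Pu : Matrix (Fin a) (Fin a) F) * _ = 1
    rw [← Units.val_mul, mul_inv_cancel, Units.val_one]
  have hAu : IsUnit A.det := isUnit_iff_ne_zero.2 hAd
  set G' := P * G with hG'
  set H' := (-Ψ * M + H + (-Ψ * G + K) * Ψ) * Pi with hH'
  set K' := -Ψ * G + K with hK'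
  refine ⟨H' * A⁻¹, A⁻¹ * G', K' - H' * A⁻¹ * G', hx.trans ⟨Equiv.refl _, ?_⟩⟩
  refine ⟨fromBlocks P 0 0 1 * (L : Matrix (Fin a ⊕ Fin b) (Fin a ⊕ Fin b) F), ?_, ?_⟩
  · rw [det_mul, det_fromBlocks_zero₂₁, det_one, mul_one]
    show P.det * (fromBlocks 1 0 (-Ψ) 1).det ≠ 0
    rw [det_fromBlocks_zero₁₂, det_one, det_one, mul_one, mul_one]
    exact hP
  · show fromBlocks P 0 0 1 * fromBlocks 1 0 (-Ψ) 1 * (fromBlocks M G H K).reindex (Equiv.refl _) (Equiv.refl _) = _
    have e1 : A * (A⁻¹ * G') = G' := by rw [← Matrix.mul_assoc, Matrix.mul_nonsing_inv _ hAu, Matrix.one_mul]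
    have e2 : H' * A⁻¹ * A = H' := by rw [Matrix.mul_assoc, Matrix.nonsing_inv_mul _ hAu, Matrix.mul_one]
    have e3 : H' * A⁻¹ * A * (A⁻¹ * G') + (K' - H' * A⁻¹ * G') = K' := by
      rw [e2, ← Matrix.mul_assoc]; abel
    rw [e3, e1, e2]
    simp only [Matrix.reindex_apply, Equiv.refl_symm, Equiv.coe_refl, Matrix.submatrix_id_id]
    show _ = fromBlocks A G' H' K' * (fromBlocks P 0 0 1 * fromBlocks 1 0 (-Ψ) 1)
    simp only [fromBlocks_multiply, Matrix.one_mul, Matrix.mul_one, Matrix.zero_mul, Matrix.mul_zero, add_zero,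
      zero_add]
    have hPA : P * M + P * G * Ψ = A * P := by rw [← e, Matrix.mul_add, Matrix.mul_assoc]
    have hH : H' * P = -Ψ * M + H + K' * Ψ := by
      rw [hH', hK', Matrix.mul_assoc, show Pi * P = 1 from mul_eq_one_comm.1 hPP, Matrix.mul_one]
    rw [hG', hH, hK']
    congr 1
    · rw [← hPA, Matrix.mul_neg]; abel
    · simp only [Matrix.mul_neg, Matrix.neg_mul, Matrix.add_mul, Matrix.mul_add]
      abel

end CfsgLib.OreSmall
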